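import Cfsg.Agent.H942.Imprim

/-! # The imprimitive wreath product in the alternating group -/

set_option autoImplicit false

namespace Cfsg.Agent.H942

open Equiv Equiv.Perm

variable {Ω : Type*} [Fintype Ω] [DecidableEq Ω] {a b : ℕ} {f : Ω → Fin b}
  {K : Subgroup (Perm Ω)}

omit [DecidableEq Ω] in
theorem exists_in_fibre (hf : ∀ i : Fin b, Nat.card {x : Ω // f x = i} = a) (ha : 2 ≤ a)
    (i : Fin b) : ∃ p p' : Ω, p ≠ p' ∧ f p = i ∧ f p' = i := by
  classical
  obtain ⟨e, he⟩ := exists_equiv hf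
  refine ⟨e.symm (i, ⟨0, by omega⟩), e.symm (i, ⟨1, by omega⟩), ?_, ?_, ?_⟩
  · intro h
    have := e.symm.injective h
    simp at this
  · rw [← he]; simp
  · rw [← he]; simp

theorem exists_other (hf : ∀ i : Fin b, Nat.card {x : Ω // f x = i} = a) (ha : 2 ≤ a)
    (x : Ω) : ∃ y : Ω, y ≠ x ∧ f y = f x := by
  obtain ⟨p, p', h, h1, h2⟩ := exists_in_fibre hf ha (f x)
  by_cases hp : p = x
  · exact ⟨p', by rw [← hp]; exact h.symm, h2⟩
  · exact ⟨p, hp, h1⟩

theorem exists_third (hf : ∀ i : Fin b, Nat.card {x : Ω // f x = i} = a) (ha : 3 ≤ a)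
    (x y : Ω) : ∃ z : Ω, z ≠ x ∧ z ≠ y ∧ f z = f x := by
  classical
  have h1 : ({x, y} : Finset Ω).card < (Finset.univ.filter (fun z => f z = f x)).card := by
    have h2 : (Finset.univ.filter (fun z => f z = f x)).card = a := by
      rw [← hf (f x), Nat.card_eq_fintype_card, Fintype.card_subtype]
    rw [h2]
    exact lt_of_le_of_lt Finset.card_le_two ha
  obtain ⟨z, hz, hz'⟩ := Finset.exists_mem_notMem_of_card_lt_card h1
  simp only [Finset.mem_filter, Finset.mem_univ, true_and] at hz
  simp only [Finset.mem_insert, Finset.mem_singleton, not_or] at hz'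
  exact ⟨z, hz'.1, hz'.2, hz⟩

theorem pair_fibre (hf : ∀ i : Fin b, Nat.card {x : Ω // f x = i} = 2)
    {x y z : Ω} (hxy : x ≠ y) (h : f x = f y) (hz : f z = f x) : z = x ∨ z = y := by
  classical
  by_contra hcon
  push Not at hcon
  have h2 : (Finset.univ.filter (fun z => f z = f x)).card = 2 := by
    rw [← hf (f x), Nat.card_eq_fintype_card, Fintype.card_subtype]
  have h3 : ({z, x, y} : Finset Ω) ⊆ Finset.univ.filter (fun z => f z = f x) := by
    intro t ht
    simp only [Finset.mem_insert, Finset.mem_singleton] at ht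
    simp only [Finset.mem_filter, Finset.mem_univ, true_and]
    rcases ht with rfl | rfl | rfl
    · exact hz
    · rfl
    · exact h.symm
  have h4 := Finset.card_le_card h3
  rw [h2, Finset.card_insert_of_notMem (by simp [hcon.1, hcon.2]),
    Finset.card_pair hxy] at h4
  omega

theorem swap_swap_mem (hK : part f ⊓ alternatingGroup Ω ≤ K) {x x' y y' : Ω}
    (hx : x ≠ x') (hy : y ≠ y') (hfx : f x = f x') (hfy : f y = f y') :
    swap x x' * swap y y' ∈ K := by
  refine hK ⟨mul_mem (swap_mem_part hfx) (swap_mem_part hfy), ?_⟩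
  show swap x x' * swap y y' ∈ alternatingGroup Ω
  rw [mem_alternatingGroup, Perm.sign_mul, sign_swap hx, sign_swap hy]
  rfl

theorem T_of_fibre (hK : part f ⊓ alternatingGroup Ω ≤ K) {x y z : Ω}
    (hxy : x ≠ y) (hxz : x ≠ z) (hyz : y ≠ z) (h1 : f x = f y) (h2 : f y = f z) :
    T K x y z :=
  ⟨hxy, hxz, hyz, swap_swap_mem hK hxy hyz h1 h2⟩

/-- one mixed three-cycle is enough -/
theorem alt_le_of_mixed (ha : 2 ≤ a)
    (hf : ∀ i : Fin b, Nat.card {x : Ω // f x = i} = a)
    (hK : part f ⊓ alternatingGroup Ω ≤ K) {u u2 v : Ω} (h : T K u u2 v)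
    (hu : f u = f u2) (hv : f u ≠ f v) : alternatingGroup Ω ≤ K := by
  have key : ∀ p p2 q : Ω, p ≠ p2 → f p = f p2 → f p ≠ f q → T K p p2 q := by
    intro p p2 q hp hfp hpq
    obtain ⟨g, hg, h1, h2, h3⟩ := exists_triple hf h.xy hu hv hp hfp hpq
    rcases Int.units_eq_one_or (sign g) with hs | hs
    · have := h.conj (hK ⟨hg, mem_alternatingGroup.2 hs⟩)
      rwa [h1, h2, h3] at this
    · have h4 : swap p p2 * g ∈ K := by
        refine hK ⟨mul_mem (swap_mem_part hfp) hg, ?_⟩
        show swap p p2 * g ∈ alternatingGroup Ω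
        rw [mem_alternatingGroup, Perm.sign_mul, sign_swap hp, hs]
        rfl
      have h5 := h.conj h4
      have e1 : (swap p p2 * g) u = p2 := by
        rw [Perm.coe_mul, Function.comp_apply, h1, swap_apply_left]
      have e2 : (swap p p2 * g) u2 = p := by
        rw [Perm.coe_mul, Function.comp_apply, h2, swap_apply_right]
      have e3 : (swap p p2 * g) v = q := by
        rw [Perm.coe_mul, Function.comp_apply, h3]
        refine swap_apply_of_ne_of_ne ?_ ?_
        · rintro rfl; exact hpq rfl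
        · rintro rfl; exact hpq hfp
      rw [e1, e2, e3] at h5
      exact h5.swap12
  refine alt_le_of_T ?_
  intro x y z hxy hxz hyz
  by_cases h1 : f x = f y
  · by_cases h2 : f y = f z
    · exact T_of_fibre hK hxy hxz hyz h1 h2
    · exact key x y z hxy h1 (by rw [h1]; exact h2)
  · by_cases h2 : f x = f z
    · exact (key z x y hxz.symm h2.symm (by rw [← h2]; exact h1)).rot
    · by_cases h3 : f y = f z
      · exact (key y z x hyz h3 (fun e => h1 e.symm)).rot.rot
      · obtain ⟨p2, hp2, hp2'⟩ := exists_other hf ha x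
        exact (key x p2 z hp2.symm hp2'.symm h2).link (key x p2 y hp2.symm hp2'.symm h1) hyz.symm

theorem alt_le_three (ha : 3 ≤ a)
    (hf : ∀ i : Fin b, Nat.card {x : Ω // f x = i} = a)
    (hK : part f ⊓ alternatingGroup Ω ≤ K) {g : Perm Ω} (hg : g ∈ K) (hg' : g ∉ part f) :
    alternatingGroup Ω ≤ K := by
  obtain ⟨g, hg, x, y, hxy, hfxy, hgxy⟩ := exists_sep hg hg'
  obtain ⟨z, hzx, hzy, hfz⟩ := exists_third hf ha x y
  have h1 : T K (g x) (g y) (g z) :=
    (T_of_fibre hK hxy hzx.symm hzy.symm hfxy (by rw [← hfxy, hfz])).conj hg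
  have ha' : 2 ≤ a := by omega
  by_cases h2 : f (g z) = f (g x)
  · exact alt_le_of_mixed ha' hf hK h1.rot.rot h2 (by rw [h2]; exact hgxy)
  · by_cases h3 : f (g z) = f (g y)
    · exact alt_le_of_mixed ha' hf hK h1.rot h3.symm (fun e => hgxy e.symm)
    · obtain ⟨u2, hu2, hfu2⟩ := exists_other hf ha' (g x)
      obtain ⟨u3, hu3, hu3', hfu3⟩ := exists_third hf ha (g x) u2
      have h4 : T K (g x) u2 u3 :=
        T_of_fibre hK hu2.symm hu3.symm hu3'.symm hfu2.symm (by rw [hfu2, hfu3])
      have h5 := h4.conj h1.mem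
      have n1 : u2 ≠ g y := by rintro rfl; exact hgxy hfu2.symm
      have n2 : u2 ≠ g z := by rintro rfl; exact h2 hfu2
      have n3 : u3 ≠ g y := by rintro rfl; exact hgxy hfu3.symm
      have n4 : u3 ≠ g z := by rintro rfl; exact h2 hfu3
      rw [c3_apply_left h1.xy h1.xz, c3_apply_other hu2 n1 n2, c3_apply_other hu3 n3 n4] at h5
      refine alt_le_of_mixed ha' hf hK h5.rot (by rw [hfu2, hfu3]) ?_
      rw [hfu2]; exact hgxy

omit [Fintype Ω] in
theorem conj_swap_swap (g : Perm Ω) (x x' y y' : Ω) :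
    g * (swap x x' * swap y y') * g⁻¹ = swap (g x) (g x') * swap (g y) (g y') := by
  rw [Equiv.swap_apply_apply, Equiv.swap_apply_apply]
  group

/-- fibres of size two, at least five of them -/
theorem alt_le_two_five (hb : 5 ≤ b)
    (hf : ∀ i : Fin b, Nat.card {x : Ω // f x = i} = 2)
    (hK : part f ⊓ alternatingGroup Ω ≤ K) {g : Perm Ω} (hg : g ∈ K) (hg' : g ∉ part f) :
    alternatingGroup Ω ≤ K := by
  obtain ⟨g, hg, x, x', hxy, hfxy, hgxy⟩ := exists_sep hg hg'
  obtain ⟨y', hy', hfy'⟩ := exists_other hf le_rfl (g x)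
  obtain ⟨z', hz', hfz'⟩ := exists_other hf le_rfl (g x')
  obtain ⟨i, -, hi⟩ : ∃ i ∈ (Finset.univ : Finset (Fin b)),
      i ∉ ({f x, f (g⁻¹ y'), f (g⁻¹ z')} : Finset (Fin b)) := by
    refine Finset.exists_mem_notMem_of_card_lt_card (lt_of_le_of_lt Finset.card_le_three ?_)
    rw [Finset.card_univ, Fintype.card_fin]; omega
  simp only [Finset.mem_insert, Finset.mem_singleton, not_or] at hi
  obtain ⟨p, p', hpp, hp, hp'⟩ := exists_in_fibre hf le_rfl i
  obtain ⟨j, -, hj⟩ : ∃ j ∈ (Finset.univ : Finset (Fin b)),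
      j ∉ ({f (g x), f (g x'), f (g p), f (g p')} : Finset (Fin b)) := by
    refine Finset.exists_mem_notMem_of_card_lt_card (lt_of_le_of_lt Finset.card_le_four ?_)
    rw [Finset.card_univ, Fintype.card_fin]; omega
  simp only [Finset.mem_insert, Finset.mem_singleton, not_or] at hj
  obtain ⟨c, c', hcc, hc, hc'⟩ := exists_in_fibre hf le_rfl j
  -- the two elements
  have ht : swap (g x) (g x') * swap (g p) (g p') ∈ K := by
    rw [← conj_swap_swap]
    exact K.mul_mem (K.mul_mem hg (swap_swap_mem hK hxy hpp hfxy (hp.trans hp'.symm)))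
      (K.inv_mem hg)
  have hs : swap (g x) y' * swap c c' ∈ K :=
    swap_swap_mem hK hy'.symm hcc hfy'.symm (hc.trans hc'.symm)
  have hs' : swap c c' * swap (g x) y' ∈ K :=
    swap_swap_mem hK hcc hy'.symm (hc.trans hc'.symm) hfy'.symm
  set τ : Perm Ω := swap (g x) (g x') * swap (g p) (g p') with hτ
  have n1 : g x ≠ g p := by
    intro h; exact hi.1 (by rw [g.injective h, hp])
  have n2 : g x ≠ g p' := by
    intro h; exact hi.1 (by rw [g.injective h, hp'])
  have e1 : τ (g x) = g x' := by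
    rw [hτ, Perm.coe_mul, Function.comp_apply, swap_apply_of_ne_of_ne n1 n2, swap_apply_left]
  have n3 : y' ≠ g p := by
    intro h; apply hi.2.1; rw [h, ← hp]; simp
  have n4 : y' ≠ g p' := by
    intro h; apply hi.2.1; rw [h, ← hp']; simp
  have n5 : y' ≠ g x' := by
    intro h; rw [h] at hfy'; exact hgxy hfy'.symm
  have e2 : τ y' = y' := by
    rw [hτ, Perm.coe_mul, Function.comp_apply, swap_apply_of_ne_of_ne n3 n4,
      swap_apply_of_ne_of_ne hy' n5]
  have e3 : ∀ t : Ω, f t = j → τ t = t := by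
    intro t ht
    have m1 : t ≠ g x := by rintro rfl; exact hj.1 ht.symm
    have m2 : t ≠ g x' := by rintro rfl; exact hj.2.1 ht.symm
    have m3 : t ≠ g p := by rintro rfl; exact hj.2.2.1 ht.symm
    have m4 : t ≠ g p' := by rintro rfl; exact hj.2.2.2 ht.symm
    rw [hτ, Perm.coe_mul, Function.comp_apply, swap_apply_of_ne_of_ne m3 m4,
      swap_apply_of_ne_of_ne m1 m2]
  have h1 : τ * (swap (g x) y' * swap c c') * τ⁻¹ = swap (g x') y' * swap c c' := by
    rw [conj_swap_swap, e1, e2, e3 c hc, e3 c' hc']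
  have h2 : swap (g x') y' * swap c c' ∈ K := by
    rw [← h1]; exact K.mul_mem (K.mul_mem ht hs) (K.inv_mem ht)
  have h3 : c3 (g x') y' (g x) ∈ K := by
    have h4 : (swap (g x') y' * swap c c') * (swap c c' * swap (g x) y') =
        c3 (g x') y' (g x) := by
      unfold c3
      rw [mul_assoc, ← mul_assoc (swap c c'), swap_mul_self, one_mul, swap_comm (g x) y']
    rw [← h4]; exact K.mul_mem h2 hs'
  have h5 : T K (g x') y' (g x) := ⟨n5.symm, fun h => hxy (g.injective h).symm, hy', h3⟩
  exact alt_le_of_mixed le_rfl hf hK h5.rot hfy' (by rw [hfy']; exact hgxy)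

/-- swapping two fibres of size two is in `part f` -/
theorem swap_fibres_mem (hf : ∀ i : Fin b, Nat.card {x : Ω // f x = i} = 2)
    {y y' z z' : Ω} (hy : y ≠ y') (hz : z ≠ z') (hfy : f y = f y') (hfz : f z = f z')
    (hyz : f y ≠ f z) : swap y z * swap y' z' ∈ part f := by
  have n1 : y ≠ z := by rintro rfl; exact hyz rfl
  have n2 : y ≠ z' := by rintro rfl; exact hyz hfz.symm
  have n3 : y' ≠ z := by rintro rfl; exact hyz hfy
  have n4 : y' ≠ z' := by rintro rfl; exact hyz (hfy.trans hfz.symm)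
  have key : ∀ t, f ((swap y z * swap y' z') t) = swap (f y) (f z) (f t) := by
    intro t
    rw [Perm.coe_mul, Function.comp_apply]
    by_cases h1 : f t = f y
    · rcases pair_fibre hf hy hfy h1 with rfl | rfl
      · rw [swap_apply_of_ne_of_ne hy n2, swap_apply_left, swap_apply_left]
      · rw [swap_apply_left, swap_apply_of_ne_of_ne n2.symm hz.symm, h1, swap_apply_left, hfz]
    · by_cases h2 : f t = f z
      · rcases pair_fibre hf hz hfz h2 with rfl | rfl
        · rw [swap_apply_of_ne_of_ne n3.symm hz, swap_apply_right, swap_apply_right]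
        · rw [swap_apply_right, swap_apply_of_ne_of_ne hy.symm n3, h2, swap_apply_right, hfy]
      · rw [swap_apply_of_ne_of_ne h1 h2]
        have m1 : t ≠ y := by rintro rfl; exact h1 rfl
        have m2 : t ≠ y' := by rintro rfl; exact h1 hfy.symm
        have m3 : t ≠ z := by rintro rfl; exact h2 rfl
        have m4 : t ≠ z' := by rintro rfl; exact h2 hfz.symm
        rw [swap_apply_of_ne_of_ne m2 m4, swap_apply_of_ne_of_ne m1 m3]
  intro p q
  rw [key, key]
  exact ((swap (f y) (f z)).injective.eq_iff).symm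

theorem swap_fibres_mem' (hf : ∀ i : Fin b, Nat.card {x : Ω // f x = i} = 2)
    (hK : part f ⊓ alternatingGroup Ω ≤ K)
    {y y' z z' : Ω} (hy : y ≠ y') (hz : z ≠ z') (hfy : f y = f y') (hfz : f z = f z')
    (hyz : f y ≠ f z) : swap y z * swap y' z' ∈ K := by
  have n1 : y ≠ z := by rintro rfl; exact hyz rfl
  have n4 : y' ≠ z' := by rintro rfl; exact hyz (hfy.trans hfz.symm)
  refine hK ⟨swap_fibres_mem hf hy hz hfy hfz hyz, ?_⟩
  show swap y z * swap y' z' ∈ alternatingGroup Ω
  rw [mem_alternatingGroup, Perm.sign_mul, sign_swap n1, sign_swap n4]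
  rfl

/-- second case for three fibres of size two -/
theorem alt_le_aux (hf : ∀ i : Fin b, Nat.card {x : Ω // f x = i} = 2)
    (hK : part f ⊓ alternatingGroup Ω ≤ K) {y y' z z' w w' : Ω}
    (hy : y ≠ y') (hz : z ≠ z') (hw : w ≠ w') (hfy : f y = f y') (hfz : f z = f z')
    (hfw : f w = f w') (hyz : f y ≠ f z) (hyw : f y ≠ f w) (hzw : f z ≠ f w)
    (ht : swap y z * swap w z' ∈ K) : alternatingGroup Ω ≤ K := by
  have h1 : swap y' z' * swap y z ∈ K := by
    have := swap_fibres_mem' hf hK hy.symm hz.symm hfy.symm hfz.symm (by rw [← hfy, ← hfz]; exact hyz)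
    exact this
  have h2 : c3 y' z' w ∈ K := by
    have h3 : (swap y' z' * swap y z) * (swap y z * swap w z') = c3 y' z' w := by
      unfold c3
      rw [mul_assoc, ← mul_assoc (swap y z), swap_mul_self, one_mul, swap_comm w z']
    rw [← h3]; exact K.mul_mem h1 ht
  have n1 : y' ≠ z' := by rintro rfl; exact hyz (hfy.trans hfz.symm)
  have n2 : y' ≠ w := by rintro rfl; exact hyw hfy
  have n3 : z' ≠ w := by rintro rfl; exact hzw hfz
  have h4 : T K y' z' w := ⟨n1, n2, n3, h2⟩
  have h5 : swap z z' * swap w w' ∈ K := swap_swap_mem hK hz hw hfz hfw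
  have h6 := h4.conj h5
  have m1 : y' ≠ z := by rintro rfl; exact hyz hfy
  have m2 : y' ≠ w' := by rintro rfl; exact hyw (hfy.trans hfw.symm)
  have m3 : z' ≠ w' := by rintro rfl; exact hzw (hfz.trans hfw.symm)
  have m4 : z ≠ w := by rintro rfl; exact hzw rfl
  have m5 : z ≠ w' := by rintro rfl; exact hzw hfw.symm
  have e1 : (swap z z' * swap w w') y' = y' := by
    rw [Perm.coe_mul, Function.comp_apply, swap_apply_of_ne_of_ne n2 m2,
      swap_apply_of_ne_of_ne m1 n1]
  have e2 : (swap z z' * swap w w') z' = z := by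
    rw [Perm.coe_mul, Function.comp_apply, swap_apply_of_ne_of_ne n3 m3, swap_apply_right]
  have e3 : (swap z z' * swap w w') w = w' := by
    rw [Perm.coe_mul, Function.comp_apply, swap_apply_left,
      swap_apply_of_ne_of_ne m5.symm m3.symm]
  rw [e1, e2, e3] at h6
  have h7 := h6.conj h4.mem
  rw [c3_apply_left n1 n2, c3_apply_other m1.symm hz m4,
    c3_apply_other m2.symm m3.symm hw.symm] at h7
  refine alt_le_of_mixed le_rfl hf hK h7 hfz.symm ?_
  rw [← hfz, ← hfw]; exact hzw

/-- fibres of size two, exactly three of them -/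
theorem alt_le_two_three (hb : b = 3)
    (hf : ∀ i : Fin b, Nat.card {x : Ω // f x = i} = 2)
    (hK : part f ⊓ alternatingGroup Ω ≤ K) {g : Perm Ω} (hg : g ∈ K) (hg' : g ∉ part f) :
    alternatingGroup Ω ≤ K := by
  obtain ⟨g, hg, x, x', hxy, hfxy, hgxy⟩ := exists_sep hg hg'
  obtain ⟨y', hy', hfy'⟩ := exists_other hf le_rfl (g x)
  obtain ⟨z', hz', hfz'⟩ := exists_other hf le_rfl (g x')
  obtain ⟨j, -, hj⟩ : ∃ j ∈ (Finset.univ : Finset (Fin b)),
      j ∉ ({f (g x), f (g x')} : Finset (Fin b)) := by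
    refine Finset.exists_mem_notMem_of_card_lt_card (lt_of_le_of_lt Finset.card_le_two ?_)
    rw [Finset.card_univ, Fintype.card_fin]; omega
  simp only [Finset.mem_insert, Finset.mem_singleton, not_or] at hj
  have hall : ∀ i : Fin b, i = f (g x) ∨ i = f (g x') ∨ i = j := by
    intro i
    by_contra hcon
    push Not at hcon
    have h1 : ({i, f (g x), f (g x'), j} : Finset (Fin b)).card = 4 := by
      rw [Finset.card_insert_of_notMem (by simp [hcon.1, hcon.2.1, hcon.2.2]),
        Finset.card_insert_of_notMem (by simp [hgxy, Ne.symm hj.1]),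
        Finset.card_pair (Ne.symm hj.2)]
    have h2 := Finset.card_le_univ ({i, f (g x), f (g x'), j} : Finset (Fin b))
    rw [h1, Fintype.card_fin] at h2
    omega
  obtain ⟨w, w', hww, hw, hw'⟩ := exists_in_fibre hf le_rfl j
  obtain ⟨p', hp', hfp'⟩ := exists_other hf le_rfl (g⁻¹ w)
  have nw1 : w ≠ g x := by rintro rfl; exact hj.1 hw.symm
  have nw2 : w ≠ g x' := by rintro rfl; exact hj.2 hw.symm
  have hgw : g (g⁻¹ w) = w := by simp
  have hpx : f (g⁻¹ w) ≠ f x := by
    intro h
    rcases pair_fibre hf hxy hfxy h with h1 | h1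
    · exact nw1 (by rw [← h1, hgw])
    · exact nw2 (by rw [← h1, hgw])
  have ht : swap (g x) (g x') * swap w (g p') ∈ K := by
    have h1 := conj_swap_swap g x x' (g⁻¹ w) p'
    rw [hgw] at h1
    rw [← h1]
    exact K.mul_mem (K.mul_mem hg (swap_swap_mem hK hxy hp'.symm hfxy hfp'.symm))
      (K.inv_mem hg)
  have hgp1 : g p' ≠ g x := by
    intro h; apply hpx; rw [← hfp', g.injective h]
  have hgp2 : g p' ≠ g x' := by
    intro h; apply hpx; rw [← hfp', g.injective h, hfxy]
  have hgp3 : g p' ≠ w := by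
    intro h; apply hp'; rw [← h]; simp
  rcases hall (f (g p')) with h1 | h1 | h1
  · -- `g p' = y'`
    rcases pair_fibre hf hy'.symm hfy'.symm h1 with h2 | h2
    · exact absurd h2 hgp1
    · rw [h2, swap_comm (g x) (g x')] at ht
      exact alt_le_aux hf hK hz'.symm hy'.symm hww hfz'.symm hfy'.symm (hw.trans hw'.symm)
        (fun e => hgxy e.symm) (by rw [hw]; exact Ne.symm hj.2) (by rw [hw]; exact Ne.symm hj.1) ht
  · rcases pair_fibre hf hz'.symm hfz'.symm h1 with h2 | h2
    · exact absurd h2 hgp2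
    · rw [h2] at ht
      exact alt_le_aux hf hK hy'.symm hz'.symm hww hfy'.symm hfz'.symm (hw.trans hw'.symm)
        hgxy (by rw [hw]; exact Ne.symm hj.1) (by rw [hw]; exact Ne.symm hj.2) ht
  · rcases pair_fibre hf hww (hw.trans hw'.symm) (h1.trans hw.symm) with h2 | h2
    · exact absurd h2 hgp3
    · rw [h2] at ht
      have h3 : swap w w' * swap (g x) y' ∈ K :=
        swap_swap_mem hK hww hy'.symm (hw.trans hw'.symm) hfy'.symm
      have h4 : c3 (g x') (g x) y' ∈ K := by
        have h5 : (swap (g x) (g x') * swap w w') * (swap w w' * swap (g x) y') =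
            c3 (g x') (g x) y' := by
          unfold c3
          rw [mul_assoc, ← mul_assoc (swap w w'), swap_mul_self, one_mul,
            swap_comm (g x) (g x')]
        rw [← h5]; exact K.mul_mem ht h3
      have n1 : g x' ≠ y' := by
        intro h; rw [← h] at hfy'; exact hgxy hfy'.symm
      have h5 : T K (g x') (g x) y' := ⟨fun h => hxy (g.injective h).symm, n1, hy'.symm, h4⟩
      exact alt_le_of_mixed le_rfl hf hK h5.rot hfy'.symm hgxy

/-- two fibres of size two; here `K` is assumed inside the alternating group -/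
theorem alt_le_two_two (hb : b = 2)
    (hf : ∀ i : Fin b, Nat.card {x : Ω // f x = i} = 2)
    (hK : part f ⊓ alternatingGroup Ω ≤ K) (hKA : K ≤ alternatingGroup Ω)
    {g : Perm Ω} (hg : g ∈ K) (hg' : g ∉ part f) :
    alternatingGroup Ω ≤ K := by
  have hcard : Nat.card Ω = 4 := by
    obtain ⟨e, -⟩ := exists_equiv hf
    rw [Nat.card_congr e]; simp [hb]
  have : Nontrivial Ω := by
    rw [← Finite.one_lt_card_iff_nontrivial, hcard]; norm_num
  have hA : Nat.card (alternatingGroup Ω) = 12 := by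
    have := two_mul_nat_card_alternatingGroup (α := Ω)
    rw [Nat.card_perm, hcard] at this
    have h24 : (4 : ℕ).factorial = 24 := rfl
    omega
  let H : Subgroup (Perm Ω) := part f ⊓ alternatingGroup Ω
  obtain ⟨y, -, -, -, -⟩ := exists_in_fibre hf le_rfl ⟨0, by omega⟩
  have htr : ∀ p : Ω, ∃ h : H, (h : Perm Ω) y = p := by
    intro p
    obtain ⟨y1, hy1⟩ : ∃ y1, f y ≠ f y1 := by
      obtain ⟨i, hi⟩ : ∃ i : Fin b, i ≠ f y := by
        have : Nontrivial (Fin b) := by rw [hb]; infer_instance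
        exact exists_ne _
      obtain ⟨c, -, -, hc, -⟩ := exists_in_fibre hf le_rfl i
      exact ⟨c, by rw [hc]; exact hi.symm⟩
    obtain ⟨p1, p2, hp12, hp1, hp2⟩ : ∃ p1 p2 : Ω, p1 ≠ p2 ∧ f p ≠ f p1 ∧ f p2 = f p1 := by
      obtain ⟨i, hi⟩ : ∃ i : Fin b, i ≠ f p := by
        have : Nontrivial (Fin b) := by rw [hb]; infer_instance
        exact exists_ne _
      obtain ⟨c, c', hcc, hc, hc'⟩ := exists_in_fibre hf le_rfl i
      exact ⟨c, c', hcc, by rw [hc]; exact hi.symm, by rw [hc, hc']⟩
    obtain ⟨g, hg, h1, h2⟩ := exists_pair hf hy1 hp1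
    rcases Int.units_eq_one_or (sign g) with hs | hs
    · exact ⟨⟨g, hg, mem_alternatingGroup.2 hs⟩, h1⟩
    · refine ⟨⟨swap p1 p2 * g, mul_mem (swap_mem_part hp2.symm) hg, ?_⟩, ?_⟩
      · show swap p1 p2 * g ∈ alternatingGroup Ω
        rw [mem_alternatingGroup, Perm.sign_mul, sign_swap hp12, hs]
        rfl
      · show (swap p1 p2 * g) y = p
        rw [Perm.coe_mul, Function.comp_apply, h1]
        refine swap_apply_of_ne_of_ne ?_ ?_
        · rintro rfl; exact hp1 rfl
        · rintro rfl; exact hp1 hp2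
  have h4 : 4 ≤ Nat.card H := by
    choose φ hφ using htr
    have hinj : Function.Injective φ := by
      intro p q hpq
      rw [← hφ p, ← hφ q, hpq]
    rw [← hcard]
    exact Nat.card_le_card_of_injective φ hinj
  have hHK : Nat.card H ∣ Nat.card K := Subgroup.card_dvd_of_le hK
  have hKA' : Nat.card K ∣ 12 := by rw [← hA]; exact Subgroup.card_dvd_of_le hKA
  have hne : Nat.card H ≠ Nat.card K := by
    intro h
    have := Subgroup.eq_of_le_of_card_ge hK h.ge
    rw [← this] at hg
    exact hg' hg.1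
  have hK12 : Nat.card K = 12 := by
    obtain ⟨c, hc⟩ := hHK
    obtain ⟨d, hd⟩ := hKA'
    have hc2 : 2 ≤ c := by
      rcases c with _ | _ | c
      · rw [mul_zero] at hc
        exact absurd hc Nat.card_pos.ne'
      · exact absurd (by rw [hc]; ring) hne
      · omega
    have hd1 : d = 1 := by
      have : 8 ≤ Nat.card K := by
        rw [hc]; nlinarith
      by_contra hd1
      have : 2 ≤ d := by
        rcases d with _ | _ | d
        · omega
        · exact absurd rfl hd1
        · omega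
      nlinarith
    rw [hd1] at hd
    omega
  exact (Subgroup.eq_of_le_of_card_ge hKA (by rw [hA, hK12])).ge

/-- **the even part of the wreath product is maximal in the alternating group** -/
theorem isCoatom_part_alt (h8 : Fintype.card Ω ≠ 8) (ha : 2 ≤ a) (hb : 2 ≤ b)
    (hf : ∀ i : Fin b, Nat.card {x : Ω // f x = i} = a) :
    IsCoatom ((part f ⊓ alternatingGroup Ω).subgroupOf (alternatingGroup Ω)) := by
  constructor
  · intro h
    rw [Subgroup.subgroupOf_eq_top] at h
    obtain ⟨p, p', hpp, hp, hp'⟩ := exists_in_fibre hf ha ⟨0, by omega⟩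
    obtain ⟨q, q', hqq, hq, hq'⟩ := exists_in_fibre hf ha ⟨1, by omega⟩
    have hne : f p' ≠ f q := by
      rw [hp', hq]; simp
    have n1 : p ≠ q := by rintro rfl; exact hne (by rw [hp', hp])
    have n2 : p' ≠ q := by rintro rfl; exact hne rfl
    have h1 : c3 p p' q ∈ alternatingGroup Ω := by
      unfold c3
      rw [mem_alternatingGroup, Perm.sign_mul, sign_swap hpp, sign_swap n2]
      rfl
    have h2 := (h h1).1
    have h3 := (h2 p p').1 (by rw [hp, hp'])
    rw [c3_apply_left hpp n1, c3_apply_mid n1 n2] at h3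
    exact hne h3
  · intro K' hK'
    let K : Subgroup (Perm Ω) := K'.map (alternatingGroup Ω).subtype
    have hKA : K ≤ alternatingGroup Ω := by
      rintro _ ⟨k, -, rfl⟩
      exact k.2
    have hK : part f ⊓ alternatingGroup Ω ≤ K := by
      intro k hk
      refine ⟨⟨k, hk.2⟩, hK'.le ?_, rfl⟩
      rw [Subgroup.mem_subgroupOf]
      exact hk
    obtain ⟨g, hg, hg'⟩ := SetLike.exists_of_lt hK'
    have hgK : (g : Perm Ω) ∈ K := ⟨g, hg, rfl⟩
    have hgp : (g : Perm Ω) ∉ part f := by
      intro h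
      exact hg' (by rw [Subgroup.mem_subgroupOf]; exact ⟨h, g.2⟩)
    have hmain : alternatingGroup Ω ≤ K := by
      rcases Nat.lt_or_ge 2 a with h3 | h3
      · exact alt_le_three h3 hf hK hgK hgp
      · obtain rfl : a = 2 := by omega
        have hcard : Fintype.card Ω = b * 2 := by
          obtain ⟨e, -⟩ := exists_equiv hf
          rw [Fintype.card_congr e]; simp
        rcases Nat.lt_or_ge 4 b with h5 | h5
        · exact alt_le_two_five h5 hf hK hgK hgp
        · have : b ≠ 4 := by rintro rfl; exact h8 (by omega)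
          rcases Nat.lt_or_ge 2 b with h6 | h6
          · exact alt_le_two_three (by omega) hf hK hgK hgp
          · exact alt_le_two_two (by omega) hf hK hKA hgK hgp
    rw [eq_top_iff]
    intro k _
    obtain ⟨k', hk', hkk⟩ := hmain k.2
    have : k' = k := Subtype.ext hkk
    rw [← this]; exact hk'

end Cfsg.Agent.H942
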