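import Mathlib

/-! # The imprimitive wreath product is maximal in the symmetric and the alternating group

`part f` is the group of permutations preserving the partition into the fibres of `f`. -/

set_option autoImplicit false

namespace Cfsg.Agent.H942

open Equiv Equiv.Perm

section

variable {Ω : Type*}

/-- the group of the permutations preserving the partition given by `f` -/
def part {b : ℕ} (f : Ω → Fin b) : Subgroup (Perm Ω) where
  carrier := {g | ∀ x y : Ω, f x = f y ↔ f (g x) = f (g y)}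
  one_mem' := by intro x y; simp
  mul_mem' := by
    intro g h hg hh x y
    rw [hh x y, hg (h x) (h y)]; rfl
  inv_mem' := by
    intro g hg x y
    have := hg (g⁻¹ x) (g⁻¹ y)
    rw [this]
    simp

theorem mem_part {b : ℕ} {f : Ω → Fin b} {g : Perm Ω} :
    g ∈ part f ↔ ∀ x y : Ω, f x = f y ↔ f (g x) = f (g y) := Iff.rfl

theorem closure_eq_part {b : ℕ} (f : Ω → Fin b) :
    Subgroup.closure {g : Equiv.Perm Ω | ∀ x y : Ω, f x = f y ↔ f (g x) = f (g y)} = part f :=
  Subgroup.closure_eq (part f)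

/-- an element outside `part f` : it or its inverse separates two points of one fibre -/
theorem exists_sep {b : ℕ} {f : Ω → Fin b} {K : Subgroup (Perm Ω)} {g : Perm Ω} (hgK : g ∈ K)
    (hg : g ∉ part f) : ∃ g ∈ K, ∃ x y : Ω, x ≠ y ∧ f x = f y ∧ f (g x) ≠ f (g y) := by
  rw [mem_part] at hg
  push Not at hg
  obtain ⟨x, y, h⟩ := hg
  rcases h with ⟨h1, h2⟩ | ⟨h1, h2⟩
  · exact ⟨g, hgK, x, y, by rintro rfl; exact h2 rfl, h1, h2⟩
  · refine ⟨g⁻¹, K.inv_mem hgK, g x, g y, ?_, h2, by simpa using h1⟩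
    intro h
    exact h1 (by rw [g.injective h])

variable [DecidableEq Ω]

theorem swap_mem_part {b : ℕ} {f : Ω → Fin b} {u v : Ω} (h : f u = f v) : swap u v ∈ part f := by
  have key : ∀ z, f (swap u v z) = f z := by
    intro z
    rcases eq_or_ne z u with rfl | h1
    · rw [swap_apply_left, h]
    rcases eq_or_ne z v with rfl | h2
    · rw [swap_apply_right, h]
    rw [swap_apply_of_ne_of_ne h1 h2]
  intro x y
  rw [key, key]

/-- the three-cycle `x → y → z → x` -/
def c3 (x y z : Ω) : Perm Ω := swap x y * swap y z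

theorem conj_c3 (g : Perm Ω) (x y z : Ω) : g * c3 x y z * g⁻¹ = c3 (g x) (g y) (g z) := by
  unfold c3
  rw [Equiv.swap_apply_apply, Equiv.swap_apply_apply]
  group

theorem c3_inv (x y z : Ω) : (c3 x y z)⁻¹ = c3 z y x := by
  unfold c3
  rw [mul_inv_rev, swap_inv, swap_inv, swap_comm y z, swap_comm x y]

theorem c3_rot {x y z : Ω} (hxy : x ≠ y) (hxz : x ≠ z) (hyz : y ≠ z) : c3 x y z = c3 y z x := by
  have h : swap y z = swap z x * swap x y * (swap z x)⁻¹ := by
    rw [← Equiv.swap_apply_apply, swap_apply_right, swap_apply_of_ne_of_ne hyz hxy.symm, swap_comm]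
  unfold c3
  ext w
  simp only [coe_mul, Function.comp_apply]
  rcases eq_or_ne w x with rfl | h1
  · rw [swap_apply_of_ne_of_ne hxy hxz, swap_apply_left, swap_apply_right, swap_apply_right]
  rcases eq_or_ne w y with rfl | h2
  · rw [swap_apply_left, swap_apply_of_ne_of_ne hxz.symm hyz.symm,
      swap_apply_of_ne_of_ne hyz h1, swap_apply_left]
  rcases eq_or_ne w z with rfl | h3
  · rw [swap_apply_right, swap_apply_right, swap_apply_left,
      swap_apply_of_ne_of_ne hxy hxz]
  · rw [swap_apply_of_ne_of_ne h2 h3, swap_apply_of_ne_of_ne h1 h2,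
      swap_apply_of_ne_of_ne h3 h1, swap_apply_of_ne_of_ne h2 h3]

theorem c3_apply_left {x y z : Ω} (hxy : x ≠ y) (hxz : x ≠ z) : c3 x y z x = y := by
  unfold c3
  rw [coe_mul, Function.comp_apply, swap_apply_of_ne_of_ne hxy hxz, swap_apply_left]

theorem c3_apply_mid {x y z : Ω} (hxz : x ≠ z) (hyz : y ≠ z) : c3 x y z y = z := by
  unfold c3
  rw [coe_mul, Function.comp_apply, swap_apply_left, swap_apply_of_ne_of_ne hxz.symm hyz.symm]

theorem c3_apply_right {x y z : Ω} : c3 x y z z = x := by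
  unfold c3
  rw [coe_mul, Function.comp_apply, swap_apply_right, swap_apply_right]

theorem c3_apply_other {x y z w : Ω} (hx : w ≠ x) (hy : w ≠ y) (hz : w ≠ z) :
    c3 x y z w = w := by
  unfold c3
  rw [coe_mul, Function.comp_apply, swap_apply_of_ne_of_ne hy hz, swap_apply_of_ne_of_ne hx hy]

/-- `T K x y z` : the three-cycle `x → y → z → x` is in `K` (and the three points differ) -/
structure T (K : Subgroup (Perm Ω)) (x y z : Ω) : Prop where
  xy : x ≠ y
  xz : x ≠ z
  yz : y ≠ z
  mem : c3 x y z ∈ K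

variable {K : Subgroup (Perm Ω)}

theorem T.rot {x y z : Ω} (h : T K x y z) : T K y z x :=
  ⟨h.yz, h.xy.symm, h.xz.symm, by rw [← c3_rot h.xy h.xz h.yz]; exact h.mem⟩

theorem T.inv {x y z : Ω} (h : T K x y z) : T K z y x :=
  ⟨h.yz.symm, h.xz.symm, h.xy.symm, by rw [← c3_inv]; exact K.inv_mem h.mem⟩

theorem T.swap12 {x y z : Ω} (h : T K x y z) : T K y x z := h.inv.rot

theorem T.conj {x y z : Ω} (h : T K x y z) {g : Perm Ω} (hg : g ∈ K) :
    T K (g x) (g y) (g z) :=
  ⟨fun e => h.xy (g.injective e), fun e => h.xz (g.injective e), fun e => h.yz (g.injective e),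
    by rw [← conj_c3]; exact K.mul_mem (K.mul_mem hg h.mem) (K.inv_mem hg)⟩

/-- two three-cycles sharing two points `p, p2` : a three-cycle `p → r → q`. -/
theorem T.link {p p2 q r : Ω} (h1 : T K p p2 q) (h2 : T K p p2 r) (hqr : q ≠ r) :
    T K p r q := by
  -- conjugate `(p2 p q)` by `(p r p2)`
  have h3 : T K p r p2 := h2.inv.rot.rot
  have h4 := h1.swap12.conj h3.mem
  rw [c3_apply_right, c3_apply_left h3.xy h3.xz,
    c3_apply_other h1.xz.symm hqr h1.yz.symm] at h4
  exact h4

variable [Fintype Ω]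

/-- If all the three-cycles are in `K`, then `K` contains the alternating group. -/
theorem alt_le_of_T (h : ∀ x y z : Ω, x ≠ y → x ≠ z → y ≠ z → T K x y z) :
    alternatingGroup Ω ≤ K := by
  rw [← closure_three_cycles_eq_alternating, Subgroup.closure_le]
  intro g hg
  obtain ⟨x, hx⟩ : g.support.Nonempty := by
    rw [← Finset.card_pos, IsThreeCycle.card_support hg]; norm_num
  have h1 := (IsThreeCycle.eq_swap_mul_swap_iff_mem_support hg).2 hx
  have h2 := (IsThreeCycle.nodup_iff_mem_support hg).2 hx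
  simp only [List.nodup_cons, List.mem_cons, List.not_mem_nil, or_false, not_or,
    not_false_eq_true, List.nodup_nil, and_true] at h2
  rw [h1]
  exact (h x (g x) (g (g x)) h2.1.1 h2.1.2 h2.2).mem

end

section

variable {Ω : Type*} [Fintype Ω] [DecidableEq Ω] {a b : ℕ} {f : Ω → Fin b}

omit [DecidableEq Ω] in
theorem exists_equiv (hf : ∀ i : Fin b, Nat.card {x : Ω // f x = i} = a) :
    ∃ e : Ω ≃ Fin b × Fin a, ∀ x, (e x).1 = f x := by
  let h : ∀ i, ({x : Ω // f x = i} ≃ Fin a) := fun i => Finite.equivFinOfCardEq (hf i)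
  let e : Ω ≃ Fin b × Fin a :=
    ((Equiv.sigmaFiberEquiv f).symm.trans (Equiv.sigmaCongrRight h)).trans
      (Equiv.sigmaEquivProd (Fin b) (Fin a))
  exact ⟨e, fun x => rfl⟩

omit [DecidableEq Ω] in
theorem exists_mem_part (hf : ∀ i : Fin b, Nat.card {x : Ω // f x = i} = a)
    (π : Perm (Fin b)) : ∃ g ∈ part f, ∀ x, f (g x) = π (f x) := by
  obtain ⟨e, he⟩ := exists_equiv hf
  let g : Perm Ω := (e.trans (π.prodCongr (Equiv.refl (Fin a)))).trans e.symm
  have hg : ∀ x, f (g x) = π (f x) := by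
    intro x
    rw [← he, ← he x]
    simp [g]
  refine ⟨g, ?_, hg⟩
  intro x y
  rw [hg, hg]
  exact (π.injective.eq_iff).symm

theorem exists_perm_pair {i j i' j' : Fin b} (hij : i ≠ j) (hij' : i' ≠ j') :
    ∃ π : Perm (Fin b), π i = i' ∧ π j = j' := by
  refine ⟨swap (swap i i' j) j' * swap i i', ?_, ?_⟩
  · rw [Perm.coe_mul, Function.comp_apply, swap_apply_left]
    refine swap_apply_of_ne_of_ne ?_ hij'
    intro h
    have : swap i i' i = swap i i' j := by rw [swap_apply_left]; exact h
    exact hij ((swap i i').injective this)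
  · rw [Perm.coe_mul, Function.comp_apply, swap_apply_left]

/-- `part f` is transitive on the pairs from distinct fibres -/
theorem exists_pair (hf : ∀ i : Fin b, Nat.card {x : Ω // f x = i} = a)
    {u v p q : Ω} (huv : f u ≠ f v) (hpq : f p ≠ f q) :
    ∃ g ∈ part f, g u = p ∧ g v = q := by
  obtain ⟨π, hπ1, hπ2⟩ := exists_perm_pair huv hpq
  obtain ⟨g0, hg0, hg0'⟩ := exists_mem_part hf π
  have e1 : f (g0 u) = f p := by rw [hg0', hπ1]
  have e2 : f (g0 v) = f q := by rw [hg0', hπ2]
  refine ⟨swap (g0 u) p * (swap (g0 v) q * g0), ?_, ?_, ?_⟩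
  · exact mul_mem (swap_mem_part e1) (mul_mem (swap_mem_part e2) hg0)
  · have h1 : g0 u ≠ g0 v := by
      intro h; rw [h, e2] at e1; exact hpq e1.symm
    have h2 : g0 u ≠ q := by
      intro h; rw [h] at e1; exact hpq e1.symm
    rw [Perm.coe_mul, Function.comp_apply, Perm.coe_mul, Function.comp_apply,
      swap_apply_of_ne_of_ne h1 h2, swap_apply_left]
  · have h1 : q ≠ g0 u := by
      intro h; rw [← h] at e1; exact hpq e1.symm
    have h2 : q ≠ p := by
      intro h; rw [h] at hpq; exact hpq rfl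
    rw [Perm.coe_mul, Function.comp_apply, Perm.coe_mul, Function.comp_apply,
      swap_apply_left, swap_apply_of_ne_of_ne h1 h2]

/-- `part f` is transitive on the triples `(u, u2, v)` with `u ≠ u2` in one fibre and `v` in
another one -/
theorem exists_triple (hf : ∀ i : Fin b, Nat.card {x : Ω // f x = i} = a)
    {u u2 v p p2 q : Ω} (hu : u ≠ u2) (hfu : f u = f u2) (huv : f u ≠ f v)
    (hp : p ≠ p2) (hfp : f p = f p2) (hpq : f p ≠ f q) :
    ∃ g ∈ part f, g u = p ∧ g u2 = p2 ∧ g v = q := by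
  obtain ⟨g, hg, h1, h2⟩ := exists_pair hf huv hpq
  have h3 : f (g u2) = f p := by
    rw [← h1]; exact ((hg u u2).1 hfu).symm
  have h4 : f (g u2) = f p2 := h3.trans hfp
  refine ⟨swap (g u2) p2 * g, mul_mem (swap_mem_part h4) hg, ?_, ?_, ?_⟩
  · have h5 : p ≠ g u2 := by
      rw [← h1]; intro h; exact hu (g.injective h)
    rw [Perm.coe_mul, Function.comp_apply, h1, swap_apply_of_ne_of_ne h5 hp]
  · rw [Perm.coe_mul, Function.comp_apply, swap_apply_left]
  · have h5 : q ≠ g u2 := by
      intro h; rw [← h] at h3; exact hpq h3.symm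
    have h6 : q ≠ p2 := by
      intro h; rw [← h] at hfp; exact hpq hfp
    rw [Perm.coe_mul, Function.comp_apply, h2, swap_apply_of_ne_of_ne h5 h6]

/-- **the wreath product is maximal in the symmetric group** -/
theorem isCoatom_part (ha : 2 ≤ a) (hb : 2 ≤ b)
    (hf : ∀ i : Fin b, Nat.card {x : Ω // f x = i} = a) : IsCoatom (part f) := by
  constructor
  · -- proper : a swap between two fibres
    intro h
    obtain ⟨e, he⟩ := exists_equiv hf
    let i0 : Fin b := ⟨0, by omega⟩
    let i1 : Fin b := ⟨1, by omega⟩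
    let j0 : Fin a := ⟨0, by omega⟩
    let j1 : Fin a := ⟨1, by omega⟩
    have hi : i0 ≠ i1 := by simp [i0, i1]
    have hj : j0 ≠ j1 := by simp [j0, j1]
    have h1 : swap (e.symm (i0, j0)) (e.symm (i1, j0)) ∈ part f := by rw [h]; trivial
    have h2 := (h1 (e.symm (i0, j0)) (e.symm (i0, j1))).1 (by rw [← he, ← he]; simp)
    rw [swap_apply_left, swap_apply_of_ne_of_ne (by simpa using hj.symm) (by simp [hi]), ← he,
      ← he] at h2
    simp only [Equiv.apply_symm_apply] at h2
    exact hi h2.symm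
  · intro K hK
    obtain ⟨g0, hg0, hg0'⟩ := SetLike.exists_of_lt hK
    obtain ⟨g, hg, x, y, hxy, hfxy, hgxy⟩ := exists_sep hg0 hg0'
    have h1 : swap (g x) (g y) ∈ K := by
      rw [Equiv.swap_apply_apply]
      exact K.mul_mem (K.mul_mem hg (hK.le (swap_mem_part hfxy))) (K.inv_mem hg)
    have h2 : ∀ p q : Ω, swap p q ∈ K := by
      intro p q
      by_cases hpq : f p = f q
      · exact hK.le (swap_mem_part hpq)
      · obtain ⟨k, hk, hk1, hk2⟩ := exists_pair hf hgxy hpq
        have h3 : swap p q = k * swap (g x) (g y) * k⁻¹ := by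
          rw [← Equiv.swap_apply_apply, hk1, hk2]
        rw [h3]
        exact K.mul_mem (K.mul_mem (hK.le hk) h1) (K.inv_mem (hK.le hk))
    rw [eq_top_iff, ← Equiv.Perm.closure_isSwap, Subgroup.closure_le]
    rintro s ⟨p, q, -, rfl⟩
    exact h2 p q

end

end Cfsg.Agent.H942
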