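import Mathlib
import Cfsg.Agent.H942.E8Tab
import Cfsg.Agent.H657.BrauerChar

/-!
# Elements of `E₈(3)` of order prime to 3: eigenvalues on the adjoint module in terms of alcove vectors
-/

set_option autoImplicit false
set_option linter.unusedSectionVars false
set_option maxRecDepth 100000

namespace Cfsg.Agent.H942.E8Alc

open Cfsg.Agent.ChevalleyStructure.CoxeterGeom Cfsg.Agent.Tits.Roots
  Cfsg.Agent.Nodes.RGDChev
open Cfsg.Lie Cfsg.Agent.ChevalleyStructure Cfsg.Agent.ChevalleyStructure.Elts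
  Cfsg.Agent.ChevalleyStructure.RootVec Cfsg.Agent.ChevalleyStructure.RootVecTab
  Cfsg.Agent.ChevalleyStructure.NPerm Cfsg.Agent.ChevalleyStructure.CoxeterGeomTypes
open Cfsg.Agent.H944.RootVals Cfsg.Agent.H944.Kac Cfsg.Agent.H944.Tab
open Cfsg.Agent.H942.E8Tab Cfsg.Agent.H942.ValsChar
open Cfsg.Agent.H657 IsLocalRing Module
open Polynomial (X C)

/-- the vector of a list -/
def vecL (N : ℕ) (Y : List ℕ) : Fin 8 → ZMod N := fun i => ((Y.getD i 0 : ℕ) : ZMod N)

/-- every vector can be moved into the alcove, with the same multiset of root values -/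
theorem exists_alc {N : ℕ} (hN : 0 < N) (v : Fin 8 → ZMod N) :
    ∃ Y : List ℕ, Y.length = 8 ∧ dotN th8 Y ≤ N ∧ ms chevE8 8 (vecL N Y) = ms chevE8 8 v := by
  let P : (Fin 8 → ZMod N) → Prop := fun w => ms chevE8 8 w = ms chevE8 8 v
  have hPs : ∀ w j, P w → P (srefl chevE8 8 j w) := by
    intro w j hw
    show ms chevE8 8 (srefl chevE8 8 j w) = ms chevE8 8 v
    rw [ms_srefl e8T]
    exact hw
  obtain ⟨y, hy, hθ⟩ := exists_alcove e8T (N := N) hN _ _ 60 (by norm_num) theta8
    (by decide) _ pos8 P hPs (v₀ := v) rfl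
  let Y : List ℕ := List.ofFn y
  have hY : ∀ i : Fin 8, Y.getD i 0 = y i := by
    intro i
    rw [List.getD_eq_getElem _ _ (by rw [List.length_ofFn]; exact i.2), List.getElem_ofFn]
  refine ⟨Y, by simp [Y], ?_, ?_⟩
  · rw [dotN_eq 8 th8 Y (by decide)]
    have h2 : ∑ i : Fin 8, th8.getD i 0 * Y.getD i 0 = ∑ i : Fin 8, th8.getD i 0 * y i :=
      Finset.sum_congr rfl fun i _ => by rw [hY]
    rw [h2]
    simp only [Fin.sum_univ_eight, Matrix.cons_val] at hθ ⊢
    simp only [th8, List.getD_cons_zero, List.getD_cons_succ, Fin.val_zero, Fin.val_one, Fin.val_two] at hθ ⊢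
    norm_num at hθ ⊢
    omega
  · have : vecL N Y = fun i => ((y i : ℕ) : ZMod N) := by
      funext i
      unfold vecL
      rw [hY]
    rw [this]
    exact hy

/-! ### the adjoint representation over the residue field of `V` -/

variable {V : ValuationSubring ℂ} [CharP (ResidueField V) 3]

noncomputable instance algZ3 : Algebra (ZMod 3) (ResidueField V) := ZMod.algebra _ 3

instance fact3 : Fact (Nat.Prime 3) := ⟨Nat.prime_three⟩

/-- The representation over `K` given by a homomorphism to a matrix group over `F₀`. -/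
noncomputable def matRep {ι : Type*} [Fintype ι] [DecidableEq ι] {F₀ : Type*} [Field F₀] (K : Type*) [Field K]
    [Algebra F₀ K] {G : Type*} [Group G] (ρ : G →* GL ι F₀) : Representation K G (ι → K) :=
  ((Matrix.toLinAlgEquiv' : Matrix ι ι K ≃ₐ[K] ((ι → K) →ₗ[K] (ι → K))) : Matrix ι ι K →* ((ι → K) →ₗ[K] (ι → K))).comp
    (((RingHom.mapMatrix (algebraMap F₀ K) : Matrix ι ι F₀ →+* Matrix ι ι K) : Matrix ι ι F₀ →* Matrix ι ι K).comp
      ((Units.coeHom (Matrix ι ι F₀)).comp ρ))

theorem matRep_apply {ι : Type*} [Fintype ι] [DecidableEq ι] {F₀ : Type*} [Field F₀] (K : Type*) [Field K]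
    [Algebra F₀ K] {G : Type*} [Group G] (ρ : G →* GL ι F₀) (g : G) :
    matRep K ρ g = Matrix.toLin' (((ρ g : GL ι F₀) : Matrix ι ι F₀).map (algebraMap F₀ K)) := rfl

/-- The representation of `G` on the adjoint module of `E₈` over the residue field of `V`. -/
noncomputable def adj (V : ValuationSubring ℂ) [CharP (ResidueField V) 3] {G : Type*} [Group G]
    (F : G →* ↥(chevE8.group (ZMod 3))) :
    Representation (ResidueField V) G (chevE8.Idx → ResidueField V) :=
  matRep (ResidueField V) ((chevE8.group (ZMod 3)).subtype.comp F)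

variable {G : Type*} [Group G] (F : G →* ↥(chevE8.group (ZMod 3)))

theorem adj_charpoly (g : G) : LinearMap.charpoly (adj V F g) =
    ((((F g : ↥(chevE8.group (ZMod 3))) : GL chevE8.Idx (ZMod 3)) :
    Matrix chevE8.Idx chevE8.Idx (ZMod 3)).charpoly).map (algebraMap (ZMod 3) (ResidueField V)) := by
  unfold adj
  rw [matRep_apply, Matrix.charpoly_toLin', Matrix.charpoly_map]
  rfl

theorem lift_one : lift 3 (1 : ResidueField V) = 1 := by
  have h := lift_residue (p := 3) (V := V) (z := 1) ⟨1, by norm_num, by simp⟩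
  simpa using h

theorem lift_pow {r : ResidueField V} (hr : IsRU 3 r) (n : ℕ) : lift 3 (r ^ n) = lift 3 r ^ n := by
  obtain ⟨z, hz, hzr, hl⟩ := lift_spec hr
  have h1 : IsRU 3 ((z ^ n : V) : ℂ) := by
    obtain ⟨m, hm, h⟩ := hz
    refine ⟨m, hm, ?_⟩
    push_cast
    rw [← pow_mul, mul_comm, pow_mul, h, one_pow]
  have h2 := lift_residue (p := 3) h1
  rw [map_pow, hzr] at h2
  rw [h2, hl]
  push_cast
  rfl

theorem lift_primitive {r : ResidueField V} {N : ℕ} (hN : ¬ 3 ∣ N) (hr : IsPrimitiveRoot r N) :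
    IsPrimitiveRoot (lift 3 r) N := by
  have hRU : IsRU 3 r := ⟨N, hN, hr.pow_eq_one⟩
  constructor
  · rw [← lift_pow hRU, hr.pow_eq_one, lift_one]
  · intro m hm
    obtain ⟨z, hz, hzr, hl⟩ := lift_spec hRU
    refine hr.dvd_of_pow_eq_one m ?_
    rw [← hzr, ← map_pow]
    have : z ^ m = 1 := by
      apply Subtype.ext
      push_cast
      rw [← hl, hm]
    rw [this, map_one]

/-- the eigenvalues of an element `g` with `g ^ N = 1` on the adjoint module -/
structure Spec (V : ValuationSubring ℂ) [CharP (ResidueField V) 3] {G : Type*} [Group G]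
    (F : G →* ↥(chevE8.group (ZMod 3))) (g : G) (N : ℕ) (Y : List ℕ) (ξ : ℂ) : Prop where
  len : Y.length = 8
  alc : dotN th8 Y ≤ N
  prim : IsPrimitiveRoot ξ N
  bc : ∀ d : ℕ, bc 3 (adj V F) (g ^ d) =
    8 + ((ms chevE8 8 (vecL N Y)).map (fun a => ξ ^ (((d : ZMod N) * a).val))).sum
  frob : ms chevE8 8 (vecL N Y) = (ms chevE8 8 (vecL N Y)).map (fun a => ((3 : ℕ) : ZMod N) * a)
  ord : ∀ d : ℕ, F (g ^ d) = 1 ↔ ∀ a ∈ ms chevE8 8 (vecL N Y), (d : ZMod N) * a = 0
  conj : ∀ a : ℕ, (∃ h : ↥(chevE8.group (ZMod 3)), h * F g * h⁻¹ = F g ^ a) →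
    ms chevE8 8 (vecL N Y) = (ms chevE8 8 (vecL N Y)).map (fun b => (a : ZMod N) * b)

theorem mem_ms_iff {N d : ℕ} (v : Fin 8 → ZMod N) :
    (∀ a ∈ ms chevE8 8 v, (d : ZMod N) * a = 0) ↔ ∀ i, (d : ZMod N) * v i = 0 := by
  constructor
  · intro h i
    have hlt := NPerm.simple_lt e8T.inList (lt_rank e8T i)
    refine h (v i) ?_
    unfold ms
    rw [Multiset.mem_map]
    refine ⟨⟨chevE8.simple i, hlt⟩, Finset.mem_univ_val _, ?_⟩
    show ∑ j, ((vec chevE8 8 (chevE8.simple i) j : ℤ) : ZMod N) * v j = v i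
    rw [vec_simple e8T i, Finset.sum_eq_single i]
    · rw [sr_self, Int.cast_one, one_mul]
    · intro j _ hij
      rw [sr_ne hij, Int.cast_zero, zero_mul]
    · intro h
      exact absurd (Finset.mem_univ i) h
  · intro h a ha
    unfold ms at ha
    rw [Multiset.mem_map] at ha
    obtain ⟨s, -, rfl⟩ := ha
    rw [Finset.mul_sum]
    refine Finset.sum_eq_zero fun i _ => ?_
    rw [mul_left_comm, h i, mul_zero]

theorem exists_spec {g : G} {N : ℕ} (hN0 : N ≠ 0) (hN : N.Coprime 3) (hg : g ^ N = 1) :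
    ∃ (Y : List ℕ) (ξ : ℂ), Spec V F g N Y ξ := by
  have : IsAlgClosed (ResidueField V) := Above.isAlgClosed V
  obtain ⟨v, hv, ζ, hζ, hchar⟩ := exists_valsChar e8T 3 (F := ZMod 3) (x := F g) (N := N) hN0 hN
    (by rw [← map_pow, hg, map_one]) (ResidueField V)
  obtain ⟨Y, hY1, hY2, hY3⟩ := exists_alc (Nat.pos_of_ne_zero hN0) v
  have h3N : ¬ 3 ∣ N := by
    intro h
    have := Nat.dvd_gcd h (dvd_refl 3)
    rw [hN] at this
    omega
  have hRU : IsRU 3 ζ := ⟨N, h3N, hζ.pow_eq_one⟩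
  refine ⟨Y, lift 3 ζ, hY1, hY2, lift_primitive h3N hζ, ?_, ?_, ?_, ?_⟩
  · intro d
    unfold Cfsg.Agent.H657.bc
    rw [adj_charpoly, map_pow, hchar d, Polynomial.roots_mul, Polynomial.roots_pow, Polynomial.roots_X_sub_C,
      Multiset.map_add, Multiset.sum_add, hY3]
    · congr 1
      · rw [Multiset.map_nsmul, Multiset.map_singleton, lift_one, Multiset.sum_nsmul, Multiset.sum_singleton]
        show (8 : ℕ) • (1 : ℂ) = 8
        simp
      · rw [show (ms chevE8 8 v).map (fun a => X - C (ζ ^ (((d : ZMod N) * a).val))) =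
          ((ms chevE8 8 v).map (fun a => ζ ^ (((d : ZMod N) * a).val))).map (fun r => X - C r) by
            rw [Multiset.map_map]; rfl,
          Polynomial.roots_multiset_prod_X_sub_C, Multiset.map_map]
        congr 1
        refine Multiset.map_congr rfl fun a _ => ?_
        exact lift_pow hRU _
    · refine mul_ne_zero (pow_ne_zero _ (Polynomial.X_sub_C_ne_zero _)) ?_
      refine Multiset.prod_ne_zero fun h => ?_
      rw [Multiset.mem_map] at h
      obtain ⟨a, -, ha⟩ := h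
      exact Polynomial.X_sub_C_ne_zero _ ha
  · rw [hY3]
    have := hv.frob
    rwa [Nat.card_zmod] at this
  · intro d
    rw [hY3, mem_ms_iff, hv.ord, map_pow]
  · intro a ha
    rw [hY3]
    exact hv.conj a ha

end Cfsg.Agent.H942.E8Alc
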