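import Mathlib
import Cfsg.Agent.H942.E8Alc

/-!
# Brauer character values of `E₈(3)` on the adjoint module: elements of order 2, 4, 8, 5, 11
-/

set_option autoImplicit false
set_option linter.unusedSectionVars false
set_option maxRecDepth 100000

namespace Cfsg.Agent.H942.E8Val

open Cfsg.Agent.ChevalleyStructure.CoxeterGeom Cfsg.Agent.Tits.Roots
  Cfsg.Agent.Nodes.RGDChev
open Cfsg.Lie Cfsg.Agent.ChevalleyStructure Cfsg.Agent.ChevalleyStructure.Elts
  Cfsg.Agent.ChevalleyStructure.RootVec Cfsg.Agent.ChevalleyStructure.RootVecTab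
  Cfsg.Agent.ChevalleyStructure.NPerm Cfsg.Agent.ChevalleyStructure.CoxeterGeomTypes
open Cfsg.Agent.H944.RootVals Cfsg.Agent.H944.Kac Cfsg.Agent.H944.Tab
open Cfsg.Agent.H942.E8Tab Cfsg.Agent.H942.ValsChar Cfsg.Agent.H942.E8Alc
open Cfsg.Agent.H657 IsLocalRing Module

/-! ### generalities on multisets of root values -/

theorem dotF_vecL {N : ℕ} (Y : List ℕ) : ∀ r ∈ R8, dotF (l := 8) r (vecL N Y) = ((dotN r Y : ℕ) : ZMod N) := by
  intro r hr
  rw [dotN_eq 8 r Y (len8 r hr)]
  unfold dotF vecL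
  push_cast
  rfl

/-- sums over the multiset of root values, in terms of the table of positive roots -/
theorem sum_tab {N : ℕ} {A : Type*} [AddCommMonoid A] (Y : List ℕ) (g : ZMod N → A) :
    ((ms chevE8 8 (vecL N Y)).map g).sum =
      (R8.map fun r => g ((dotN r Y : ℕ) : ZMod N) + g (-((dotN r Y : ℕ) : ZMod N))).sum := by
  rw [sum_ms tab8]
  congr 1
  refine List.map_congr_left fun r hr => ?_
  rw [dotF_vecL Y r hr]

/-- the multiset of root values is symmetric -/
theorem ms_neg {N : ℕ} (v : Fin 8 → ZMod N) : ms chevE8 8 v = (ms chevE8 8 v).map (fun a => -a) := by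
  rw [ms_tab tab8, Multiset.map_add, Multiset.map_coe, Multiset.map_coe, List.map_map, List.map_map]
  rw [add_comm]
  congr 2
  refine List.map_congr_left fun r _ => ?_
  simp

theorem card_ms {N : ℕ} (v : Fin 8 → ZMod N) : (ms chevE8 8 v).card = 240 := by
  unfold ms
  rw [Multiset.card_map]
  show (Finset.univ : Finset (Fin chevE8.nroots)).card = 240
  rw [Finset.card_univ, Fintype.card_fin]
  rfl

/-- averaging over a set of multipliers -/
theorem sum_avg {N : ℕ} {m : Multiset (ZMod N)} (us : List (ZMod N)) (hus : ∀ u ∈ us, m = m.map (fun a => u * a))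
    (f : ZMod N → ℂ) : (us.length : ℂ) * (m.map f).sum = (m.map fun a => (us.map fun u => f (u * a)).sum).sum := by
  induction us with
  | nil => simp
  | cons u us ih =>
    have h1 : (m.map fun a => ((u :: us).map fun u => f (u * a)).sum).sum =
        (m.map fun a => f (u * a)).sum + (m.map fun a => (us.map fun u => f (u * a)).sum).sum := by
      rw [← Multiset.sum_map_add]
      simp
    have h2 : (m.map fun a => f (u * a)).sum = (m.map f).sum := by
      conv_rhs => rw [hus u (by simp), Multiset.map_map]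
      rfl
    rw [h1, h2, ← ih fun w hw => hus w (by simp [hw]), List.length_cons]
    push_cast
    ring

theorem map_mul_comm {N : ℕ} {m : Multiset (ZMod N)} {u : ZMod N} (h : m = m.map (fun a => u * a)) (d : ZMod N) :
    m.map (fun a => d * a) = (m.map (fun a => d * a)).map (fun a => u * a) := by
  conv_lhs => rw [h]
  rw [Multiset.map_map, Multiset.map_map]
  refine Multiset.map_congr rfl fun a _ => ?_
  simp only [Function.comp_apply]
  ring

/-! ### order dividing 8 -/

/-- the average of the powers of a primitive 8-th root of unity over the units -/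
def chi8 (a : ZMod 8) : ℤ := if a = 0 then 1 else if a = 4 then -1 else 0

theorem chi8_neg : ∀ a : ZMod 8, chi8 (-a) = chi8 a := by decide

theorem sum8 {m : Multiset (ZMod 8)} (h3 : m = m.map (fun a => ((3 : ℕ) : ZMod 8) * a))
    (hn : m = m.map (fun a => -a)) {ξ : ℂ} (hξ : IsPrimitiveRoot ξ 8) :
    (m.map fun a => ξ ^ a.val).sum = ((m.map chi8).sum : ℤ) := by
  have h4 : ξ ^ 4 = -1 := by
    have h0 : ξ ^ 8 = 1 := hξ.pow_eq_one
    have h1 : (ξ ^ 4 - 1) * (ξ ^ 4 + 1) = 0 := by linear_combination h0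
    rcases mul_eq_zero.1 h1 with h | h
    · exfalso
      have := hξ.dvd_of_pow_eq_one 4 (sub_eq_zero.1 h)
      omega
    · linear_combination h
  have hn' : m = m.map (fun a => (7 : ZMod 8) * a) := by
    conv_lhs => rw [hn]
    refine Multiset.map_congr rfl fun a _ => ?_
    exact (by decide : ∀ a : ZMod 8, -a = 7 * a) a
  have h3' : m = m.map (fun a => (3 : ZMod 8) * a) := by
    conv_lhs => rw [h3]
    rfl
  have h5 : m = m.map (fun a => (5 : ZMod 8) * a) := by
    conv_lhs => rw [h3', hn', Multiset.map_map]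
    refine Multiset.map_congr rfl fun a _ => ?_
    exact (by decide : ∀ a : ZMod 8, 3 * (7 * a) = 5 * a) a
  have key := sum_avg [1, 3, 7, 5] (m := m) (by
    intro u hu
    simp only [List.mem_cons, List.not_mem_nil, or_false] at hu
    rcases hu with rfl | rfl | rfl | rfl
    · simp
    · exact h3'
    · exact hn'
    · exact h5) (fun a => ξ ^ a.val)
  have hpt : ∀ a : ZMod 8, ([1, 3, 7, 5].map fun u : ZMod 8 => ξ ^ (u * a).val).sum = 4 * ((chi8 a : ℤ) : ℂ) := by
    intro a
    have h6 : ξ ^ 5 = -ξ := by rw [show 5 = 4 + 1 from rfl, pow_add, h4]; ring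
    have h7 : ξ ^ 6 = -ξ ^ 2 := by rw [show 6 = 4 + 2 from rfl, pow_add, h4]; ring
    have h8 : ξ ^ 7 = -ξ ^ 3 := by rw [show 7 = 4 + 3 from rfl, pow_add, h4]; ring
    fin_cases a
    · show ([1, 3, 7, 5].map fun u : ZMod 8 => ξ ^ (u * 0).val).sum = 4 * ((1 : ℤ) : ℂ)
      simp
      norm_num
    · show ξ ^ 1 + (ξ ^ 3 + (ξ ^ 7 + (ξ ^ 5 + 0))) = 4 * ((0 : ℤ) : ℂ)
      rw [h8, h6]; push_cast; ring
    · show ξ ^ 2 + (ξ ^ 6 + (ξ ^ 6 + (ξ ^ 2 + 0))) = 4 * ((0 : ℤ) : ℂ)
      rw [h7]; push_cast; ring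
    · show ξ ^ 3 + (ξ ^ 1 + (ξ ^ 5 + (ξ ^ 7 + 0))) = 4 * ((0 : ℤ) : ℂ)
      rw [h8, h6]; push_cast; ring
    · show ξ ^ 4 + (ξ ^ 4 + (ξ ^ 4 + (ξ ^ 4 + 0))) = 4 * ((-1 : ℤ) : ℂ)
      rw [h4]; push_cast; ring
    · show ξ ^ 5 + (ξ ^ 7 + (ξ ^ 3 + (ξ ^ 1 + 0))) = 4 * ((0 : ℤ) : ℂ)
      rw [h8, h6]; push_cast; ring
    · show ξ ^ 6 + (ξ ^ 2 + (ξ ^ 2 + (ξ ^ 6 + 0))) = 4 * ((0 : ℤ) : ℂ)
      rw [h7]; push_cast; ring
    · show ξ ^ 7 + (ξ ^ 5 + (ξ ^ 1 + (ξ ^ 3 + 0))) = 4 * ((0 : ℤ) : ℂ)
      rw [h8, h6]; push_cast; ring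
  simp only [hpt] at key
  have h9 : (m.map fun a => 4 * ((chi8 a : ℤ) : ℂ)).sum = 4 * (((m.map chi8).sum : ℤ) : ℂ) := by
    rw [Multiset.sum_map_mul_left]
    congr 1
    have h11 := map_multiset_sum (Int.castRingHom ℂ) (m.map chi8)
    rw [Multiset.map_map] at h11
    exact h11.symm
  rw [h9] at key
  have h10 : (([1, 3, 7, 5] : List (ZMod 8)).length : ℂ) = 4 := by simp
  rw [h10] at key
  exact mul_left_cancel₀ (by norm_num) key

/-- the number of roots `r` of the table with `d * (r · Y) ≡ c` modulo `N` -/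
def cnt (N d c : ℕ) (Y : List ℕ) : ℕ := sumH (fun t => bif Nat.beq ((d * t) % N) c then 1 else 0) R8 Y

/-- the value of the Brauer character, for elements of order dividing 8 -/
def t8 (d : ℕ) (Y : List ℕ) : ℤ := 8 + 2 * ((cnt 8 d 0 Y : ℤ) - (cnt 8 d 4 Y : ℤ))

theorem list_sum_sub (L : List (List ℕ)) (f g : List ℕ → ℕ) :
    (((L.map f).sum : ℕ) : ℤ) - (((L.map g).sum : ℕ) : ℤ) = (L.map fun r => (f r : ℤ) - (g r : ℤ)).sum := by
  induction L with
  | nil => simp
  | cons r L ih =>
    simp only [List.map_cons, List.sum_cons]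
    rw [← ih]
    push_cast
    ring

theorem chi8_nat : ∀ n : ℕ, chi8 (n : ZMod 8) =
    ((bif Nat.beq (n % 8) 0 then 1 else 0 : ℕ) : ℤ) - ((bif Nat.beq (n % 8) 4 then 1 else 0 : ℕ) : ℤ) := by
  intro n
  have h1 : (n : ZMod 8) = ((n % 8 : ℕ) : ZMod 8) := by rw [ZMod.natCast_mod]
  rw [h1]
  have h2 : n % 8 < 8 := Nat.mod_lt _ (by norm_num)
  generalize n % 8 = k at h2
  interval_cases k <;> decide

theorem sum_chi8 (d : ℕ) (Y : List ℕ) :
    8 + ((ms chevE8 8 (vecL 8 Y)).map fun a => chi8 ((d : ZMod 8) * a)).sum = t8 d Y := by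
  rw [sum_tab, t8, cnt, cnt, sumH_eq, sumH_eq, list_sum_sub]
  congr 1
  rw [← List.sum_map_mul_left]
  congr 1
  refine List.map_congr_left fun r _ => ?_
  rw [mul_neg, chi8_neg, ← Nat.cast_mul, chi8_nat]
  ring

theorem bc8 {V : ValuationSubring ℂ} [CharP (ResidueField V) 3] {G : Type*} [Group G]
    {F : G →* ↥(chevE8.group (ZMod 3))} {g : G} {Y : List ℕ} {ξ : ℂ} (h : Spec V F g 8 Y ξ) (d : ℕ) :
    bc 3 (adj V F) (g ^ d) = (t8 d Y : ℂ) := by
  rw [h.bc, ← sum_chi8 d Y]
  have h1 : (ms chevE8 8 (vecL 8 Y)).map (fun a => ξ ^ (((d : ZMod 8) * a).val)) =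
      ((ms chevE8 8 (vecL 8 Y)).map fun a => (d : ZMod 8) * a).map fun a => ξ ^ a.val := by
    rw [Multiset.map_map]; rfl
  have h2 := map_mul_comm h.frob (d : ZMod 8)
  have hn : (ms chevE8 8 (vecL 8 Y)) = (ms chevE8 8 (vecL 8 Y)).map (fun a => (-1 : ZMod 8) * a) := by
    conv_lhs => rw [ms_neg]
    refine Multiset.map_congr rfl fun a _ => ?_
    rw [neg_one_mul]
  have h3 := map_mul_comm hn (d : ZMod 8)
  have h3' : ((ms chevE8 8 (vecL 8 Y)).map fun a => (d : ZMod 8) * a) =
      ((ms chevE8 8 (vecL 8 Y)).map fun a => (d : ZMod 8) * a).map (fun a => -a) := by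
    conv_lhs => rw [h3]
    refine Multiset.map_congr rfl fun a _ => ?_
    rw [neg_one_mul]
  rw [h1, sum8 h2 h3' h.prim, Multiset.map_map]
  push_cast
  rfl

theorem sum_eq_card_iff (m : Multiset (ZMod 8)) (d : ZMod 8) :
    (m.map fun a => chi8 (d * a)).sum = (m.card : ℤ) ↔ ∀ a ∈ m, d * a = 0 := by
  have hle : ∀ a : ZMod 8, chi8 a ≤ 1 := by decide
  have heq : ∀ a : ZMod 8, chi8 a = 1 → a = 0 := by decide
  have hsum : ∀ m : Multiset (ZMod 8), (m.map fun a => chi8 (d * a)).sum ≤ (m.card : ℤ) := by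
    intro m
    induction m using Multiset.induction_on with
    | empty => simp
    | cons a s ih =>
      rw [Multiset.map_cons, Multiset.sum_cons, Multiset.card_cons]
      push_cast
      have := hle (d * a)
      omega
  induction m using Multiset.induction_on with
  | empty => simp
  | cons a s ih =>
    rw [Multiset.map_cons, Multiset.sum_cons, Multiset.card_cons]
    have h1 := hle (d * a)
    have h2 := hsum s
    constructor
    · intro h b hb
      push_cast at h
      rcases Multiset.mem_cons.1 hb with rfl | hb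
      · exact heq _ (by omega)
      · exact ih.1 (by omega) b hb
    · intro h
      have h3 := ih.2 fun b hb => h b (Multiset.mem_cons_of_mem hb)
      rw [h3, h a (Multiset.mem_cons_self a s)]
      push_cast
      have : chi8 0 = 1 := by decide
      omega

theorem ord8 {V : ValuationSubring ℂ} [CharP (ResidueField V) 3] {G : Type*} [Group G]
    {F : G →* ↥(chevE8.group (ZMod 3))} {g : G} {Y : List ℕ} {ξ : ℂ} (h : Spec V F g 8 Y ξ) (d : ℕ) :
    F (g ^ d) = 1 ↔ t8 d Y = 248 := by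
  rw [h.ord, ← sum_eq_card_iff, card_ms, ← sum_chi8 d Y]
  constructor
  · intro h
    rw [h]
    rfl
  · intro h
    omega

/-- the values of the Brauer character at `g`, `g ^ 2`, `g ^ 4` -/
def L8 : List (ℤ × ℤ × ℤ) :=
  [(-8, 248, 248), (-6, 132, 24), (-4, 24, 248), (-4, 64, -8), (-2, 4, 24), (-2, 28, 24), (0, -8, 248), (0, 0, -8),
   (0, 8, -8), (2, -4, 24), (2, 4, 24), (4, 0, -8), (4, 24, 248), (6, 4, 24), (8, -8, 248), (12, 64, -8),
   (14, 28, 24), (16, 0, -8), (24, 248, 248), (26, 132, 24), (28, 24, 248), (34, -4, 24), (44, 64, -8),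
   (64, -8, 248), (78, 28, 24), (132, 24, 248), (248, 248, 248)]

theorem check8 : allAlc th8 8 (fun Y => bif invB 8 3 R8 Y then decide ((t8 1 Y, t8 2 Y, t8 4 Y) ∈ L8) else true) =
    true := by
  decide +kernel

/-- **Elements of order dividing 8.** -/
theorem val8 (V : ValuationSubring ℂ) [CharP (ResidueField V) 3] {G : Type*} [Group G]
    (F : G →* ↥(chevE8.group (ZMod 3))) {g : G} (hg : g ^ 8 = 1) :
    ∃ t₁ t₂ t₄ : ℤ, (t₁, t₂, t₄) ∈ L8 ∧ bc 3 (adj V F) g = t₁ ∧ bc 3 (adj V F) (g ^ 2) = t₂ ∧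
      bc 3 (adj V F) (g ^ 4) = t₄ ∧ (F g = 1 ↔ t₁ = 248) ∧ (F (g ^ 2) = 1 ↔ t₂ = 248) ∧
      (F (g ^ 4) = 1 ↔ t₄ = 248) := by
  obtain ⟨Y, ξ, h⟩ := exists_spec (V := V) F (N := 8) (by norm_num) (by norm_num) hg
  refine ⟨t8 1 Y, t8 2 Y, t8 4 Y, ?_, ?_, bc8 h 2, bc8 h 4, ?_, ord8 h 2, ord8 h 4⟩
  · have h1 := allAlc_spec th8 8 _ (by decide) check8 Y h.len h.alc
    have h2 : invB 8 3 R8 Y = true := invB_of (by norm_num) tab8 len8 h.frob
    rw [h2, cond_true, decide_eq_true_iff] at h1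
    exact h1
  · have := bc8 h 1
    rwa [pow_one] at this
  · have := ord8 h 1
    rwa [pow_one] at this

/-! ### order 5 and 11 -/

theorem sum_ind {N : ℕ} (d : ℕ) (Y : List ℕ) [NeZero N] :
    ((ms chevE8 8 (vecL N Y)).map fun a => if (d : ZMod N) * a = 0 then (1 : ℤ) else 0).sum =
      2 * (cnt N d 0 Y : ℤ) := by
  rw [sum_tab, cnt, sumH_eq]
  have h1 : ((R8.map fun r => bif Nat.beq ((d * dotN r Y) % N) 0 then 1 else 0).sum : ℕ) =
      ((R8.map fun r => ((bif Nat.beq ((d * dotN r Y) % N) 0 then 1 else 0 : ℕ) : ℤ)).sum) := by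
    induction R8 with
    | nil => simp
    | cons r L ih =>
      simp only [List.map_cons, List.sum_cons, ← ih]
      push_cast
      rfl
  rw [h1, ← List.sum_map_mul_left]
  congr 1
  refine List.map_congr_left fun r _ => ?_
  simp only [mul_neg, neg_eq_zero, ← Nat.cast_mul]
  by_cases h : ((d * dotN r Y : ℕ) : ZMod N) = 0
  · rw [if_pos h]
    rw [ZMod.natCast_eq_zero_iff] at h
    have h2 : Nat.beq (d * dotN r Y % N) 0 = true := by rw [Nat.mod_eq_zero_of_dvd h]; rfl
    rw [h2]
    rfl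
  · rw [if_neg h]
    rw [ZMod.natCast_eq_zero_iff] at h
    have h2 : Nat.beq (d * dotN r Y % N) 0 = false := by
      rw [Bool.eq_false_iff]
      intro h3
      exact h (Nat.dvd_of_mod_eq_zero (Nat.eq_of_beq_eq_true h3))
    rw [h2]
    rfl

theorem sum_ind_iff {N : ℕ} [NeZero N] (m : Multiset (ZMod N)) (d : ZMod N) :
    (m.map fun a => if d * a = 0 then (1 : ℤ) else 0).sum = (m.card : ℤ) ↔ ∀ a ∈ m, d * a = 0 := by
  have hsum : ∀ m : Multiset (ZMod N), (m.map fun a => if d * a = 0 then (1 : ℤ) else 0).sum ≤ (m.card : ℤ) := by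
    intro m
    induction m using Multiset.induction_on with
    | empty => simp
    | cons a s ih =>
      rw [Multiset.map_cons, Multiset.sum_cons, Multiset.card_cons]
      push_cast
      split_ifs <;> omega
  induction m using Multiset.induction_on with
  | empty => simp
  | cons a s ih =>
    rw [Multiset.map_cons, Multiset.sum_cons, Multiset.card_cons]
    have h2 := hsum s
    constructor
    · intro h b hb
      push_cast at h
      have h3 : d * a = 0 := by
        by_contra h3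
        rw [if_neg h3] at h
        omega
      rw [if_pos h3] at h
      rcases Multiset.mem_cons.1 hb with rfl | hb
      · exact h3
      · exact ih.1 (by omega) b hb
    · intro h
      have h3 := ih.2 fun b hb => h b (Multiset.mem_cons_of_mem hb)
      rw [h3, if_pos (h a (Multiset.mem_cons_self a s))]
      push_cast
      omega

/-- sums of powers of a primitive `N`-th root of unity over an invariant multiset, `N` prime -/
theorem sum_prime {N : ℕ} [hN : Fact N.Prime] {ξ : ℂ} (hξ : IsPrimitiveRoot ξ N)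
    {m : Multiset (ZMod N)} (hus : ∀ u : ZMod N, u ≠ 0 → m = m.map (fun a => u * a)) :
    ((N : ℂ) - 1) * (m.map fun a => ξ ^ a.val).sum =
      (N : ℂ) * (((m.map fun a => if a = 0 then (1 : ℤ) else 0).sum : ℤ) : ℂ) - m.card := by
  classical
  have h0 : ∑ w : ZMod N, ξ ^ w.val = 0 := by
    rw [← hξ.geom_sum_eq_zero hN.out.one_lt]
    refine Finset.sum_bij (fun w _ => w.val) (fun w _ => Finset.mem_range.2 (ZMod.val_lt w))
      (fun a _ b _ h => ZMod.val_injective N h) (fun b hb => ⟨(b : ZMod N), Finset.mem_univ _, ?_⟩) (fun _ _ => rfl)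
    rw [ZMod.val_natCast, Nat.mod_eq_of_lt (Finset.mem_range.1 hb)]
  have hpt : ∀ a : ZMod N, ∑ u ∈ Finset.univ.erase (0 : ZMod N), ξ ^ (u * a).val =
      (N : ℂ) * (if a = 0 then 1 else 0) - 1 := by
    intro a
    by_cases ha : a = 0
    · subst ha
      simp only [mul_zero, ZMod.val_zero, pow_zero, Finset.sum_const, Finset.card_erase_of_mem (Finset.mem_univ _),
        Finset.card_univ, ZMod.card, if_true, nsmul_eq_mul, mul_one]
      rw [Nat.cast_sub hN.out.one_lt.le, Nat.cast_one]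
    · rw [if_neg ha, mul_zero, zero_sub]
      have h1 : ∑ u : ZMod N, ξ ^ (u * a).val = 0 := by
        rw [← h0]
        exact Equiv.sum_comp (Equiv.mulRight₀ a ha) (fun w : ZMod N => ξ ^ w.val)
      rw [← Finset.add_sum_erase _ _ (Finset.mem_univ (0 : ZMod N)), zero_mul, ZMod.val_zero, pow_zero] at h1
      linear_combination h1
  have key : (∑ _u ∈ Finset.univ.erase (0 : ZMod N), (1 : ℂ)) * (m.map fun a => ξ ^ a.val).sum =
      (m.map fun a => ∑ u ∈ Finset.univ.erase (0 : ZMod N), ξ ^ (u * a).val).sum := by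
    have h2 : ∀ S : Finset (ZMod N), (∀ u ∈ S, u ≠ 0) → (∑ _u ∈ S, (1 : ℂ)) * (m.map fun a => ξ ^ a.val).sum =
        (m.map fun a => ∑ u ∈ S, ξ ^ (u * a).val).sum := by
      intro S
      induction S using Finset.induction_on with
      | empty => simp
      | insert u S hu ih =>
        intro h
        simp only [Finset.sum_insert hu, Multiset.sum_map_add]
        rw [← ih fun w hw => h w (Finset.mem_insert_of_mem hw), add_mul, one_mul]
        congr 1
        conv_lhs => rw [hus u (h u (Finset.mem_insert_self u S)), Multiset.map_map]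
        rfl
    exact h2 _ fun u hu => (Finset.mem_erase.1 hu).1
  rw [Finset.sum_const, Finset.card_erase_of_mem (Finset.mem_univ _), Finset.card_univ, ZMod.card, nsmul_eq_mul,
    mul_one, Nat.cast_sub hN.out.one_lt.le, Nat.cast_one] at key
  rw [key]
  simp only [hpt]
  rw [Multiset.sum_map_sub, Multiset.sum_map_mul_left]
  congr 1
  · congr 1
    have h11 := map_multiset_sum (Int.castRingHom ℂ) (m.map fun a => if a = 0 then (1 : ℤ) else 0)
    rw [Multiset.map_map] at h11
    refine Eq.trans ?_ h11.symm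
    congr 1
    refine Multiset.map_congr rfl fun a _ => ?_
    simp only [Function.comp_apply]
    split_ifs <;> simp
  · simp

/-- the values at the elements of prime order `N`, if the multiset is invariant under all units -/
theorem bc_prime {N : ℕ} [hN : Fact N.Prime] {V : ValuationSubring ℂ} [CharP (ResidueField V) 3] {G : Type*} [Group G]
    {F : G →* ↥(chevE8.group (ZMod 3))} {g : G} {Y : List ℕ} {ξ : ℂ} (h : Spec V F g N Y ξ)
    (hus : ∀ u : ZMod N, u ≠ 0 → ms chevE8 8 (vecL N Y) = (ms chevE8 8 (vecL N Y)).map (fun a => u * a))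
    {d : ℕ} (hd : ¬ N ∣ d) :
    ((N : ℂ) - 1) * bc 3 (adj V F) (g ^ d) = 8 * ((N : ℂ) - 1) + 2 * N * (cnt N 1 0 Y : ℂ) - 240 := by
  rw [h.bc]
  have hd' : (d : ZMod N) ≠ 0 := by
    rw [Ne, ZMod.natCast_eq_zero_iff]
    exact hd
  have e1 : (ms chevE8 8 (vecL N Y)).map (fun a => ξ ^ (((d : ZMod N) * a).val)) =
      (ms chevE8 8 (vecL N Y)).map fun a => ξ ^ a.val := by
    conv_rhs => rw [hus _ hd', Multiset.map_map]
    rfl
  have e6 := sum_prime h.prim hus
  have e7 : ((ms chevE8 8 (vecL N Y)).map fun a => if a = 0 then (1 : ℤ) else 0).sum = 2 * (cnt N 1 0 Y : ℤ) := by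
    rw [← sum_ind 1 Y]
    congr 1
    refine Multiset.map_congr rfl fun a _ => ?_
    simp only [Nat.cast_one, one_mul]
  rw [e1, mul_add, e6, e7, card_ms]
  push_cast
  ring

theorem ord_prime {N : ℕ} [hN : Fact N.Prime] {V : ValuationSubring ℂ} [CharP (ResidueField V) 3] {G : Type*} [Group G]
    {F : G →* ↥(chevE8.group (ZMod 3))} {g : G} {Y : List ℕ} {ξ : ℂ} (h : Spec V F g N Y ξ) :
    F g = 1 ↔ cnt N 1 0 Y = 120 := by
  have e1 := h.ord 1
  rw [pow_one] at e1
  rw [e1, ← sum_ind_iff, card_ms]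
  have e2 := sum_ind (N := N) 1 Y
  rw [e2]
  omega

theorem check5 : allAlc th8 5 (fun Y => bif invB 5 3 R8 Y then decide (cnt 5 1 0 Y ∈ [20, 22, 30, 120]) else true) =
    true := by
  decide +kernel

theorem check11 : allAlc th8 11 (fun Y => bif invB 11 3 R8 Y then decide (cnt 11 1 0 Y ∈ [10, 120]) else true) =
    true := by
  decide +kernel

theorem map_mul_mul {N : ℕ} {m : Multiset (ZMod N)} {u w : ZMod N} (hu : m = m.map (fun a => u * a))
    (hw : m = m.map (fun a => w * a)) : m = m.map (fun a => (u * w) * a) := by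
  conv_lhs => rw [hu, hw, Multiset.map_map]
  refine Multiset.map_congr rfl fun a _ => ?_
  simp only [Function.comp_apply, mul_assoc]

theorem map_mul_pow {N : ℕ} {m : Multiset (ZMod N)} {u : ZMod N} (hu : m = m.map (fun a => u * a)) (k : ℕ) :
    m = m.map (fun a => u ^ k * a) := by
  induction k with
  | zero => simp
  | succ k ih =>
    rw [pow_succ]
    exact map_mul_mul ih hu

theorem gen5 : ∀ u : ZMod 5, u ≠ 0 → ∃ k < 4, u = (3 : ZMod 5) ^ k := by decide

theorem gen11 : ∀ u : ZMod 11, u ≠ 0 → ∃ k < 5, ∃ j < 2, u = (3 : ZMod 11) ^ k * (-1) ^ j := by decide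

/-- **Elements of order dividing 5.** -/
theorem val5 (V : ValuationSubring ℂ) [CharP (ResidueField V) 3] {G : Type*} [Group G]
    (F : G →* ↥(chevE8.group (ZMod 3))) {g : G} (hg : g ^ 5 = 1) :
    ∃ t : ℤ, (t = -2 ∨ t = 3 ∨ t = 23 ∨ t = 248) ∧ (∀ d : ℕ, ¬ 5 ∣ d → bc 3 (adj V F) (g ^ d) = t) ∧
      (F g = 1 ↔ t = 248) := by
  have : Fact (Nat.Prime 5) := ⟨Nat.prime_five⟩
  obtain ⟨Y, ξ, h⟩ := exists_spec (V := V) F (N := 5) (by norm_num) (by norm_num) hg
  have h1 := allAlc_spec th8 5 _ (by decide) check5 Y h.len h.alc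
  have h2 : invB 5 3 R8 Y = true := invB_of (by norm_num) tab8 len8 h.frob
  rw [h2, cond_true, decide_eq_true_iff] at h1
  have hus : ∀ u : ZMod 5, u ≠ 0 → ms chevE8 8 (vecL 5 Y) = (ms chevE8 8 (vecL 5 Y)).map (fun a => u * a) := by
    intro u hu
    obtain ⟨k, -, hk⟩ := gen5 u hu
    rw [hk]
    exact map_mul_pow h.frob k
  have hval : ∀ d : ℕ, ¬ 5 ∣ d → 4 * bc 3 (adj V F) (g ^ d) = 10 * (cnt 5 1 0 Y : ℂ) - 208 := by
    intro d hd
    have := bc_prime h hus hd
    push_cast at this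
    linear_combination this
  have hcard := ord_prime h
  simp only [List.mem_cons, List.not_mem_nil, or_false] at h1
  rcases h1 with h1 | h1 | h1 | h1
  · refine ⟨-2, by simp, fun d hd => ?_, ?_⟩
    · have := hval d hd
      rw [h1] at this
      push_cast at this ⊢
      linear_combination this / 4
    · rw [hcard, h1]; omega
  · refine ⟨3, by simp, fun d hd => ?_, ?_⟩
    · have := hval d hd
      rw [h1] at this
      push_cast at this ⊢
      linear_combination this / 4
    · rw [hcard, h1]; omega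
  · refine ⟨23, by simp, fun d hd => ?_, ?_⟩
    · have := hval d hd
      rw [h1] at this
      push_cast at this ⊢
      linear_combination this / 4
    · rw [hcard, h1]; omega
  · refine ⟨248, by simp, fun d hd => ?_, ?_⟩
    · have := hval d hd
      rw [h1] at this
      push_cast at this ⊢
      linear_combination this / 4
    · rw [hcard, h1]; omega

/-- **Elements of order 11.** -/
theorem val11 (V : ValuationSubring ℂ) [CharP (ResidueField V) 3] {G : Type*} [Group G]
    (F : G →* ↥(chevE8.group (ZMod 3))) {g : G} (hg : g ^ 11 = 1) (hne : F g ≠ 1) {d : ℕ} (hd : ¬ 11 ∣ d) :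
    bc 3 (adj V F) (g ^ d) = 6 := by
  have : Fact (Nat.Prime 11) := ⟨by norm_num⟩
  obtain ⟨Y, ξ, h⟩ := exists_spec (V := V) F (N := 11) (by norm_num) (by norm_num) hg
  have h1 := allAlc_spec th8 11 _ (by decide) check11 Y h.len h.alc
  have h2 : invB 11 3 R8 Y = true := invB_of (by norm_num) tab8 len8 h.frob
  rw [h2, cond_true, decide_eq_true_iff] at h1
  have hcard := ord_prime h
  simp only [List.mem_cons, List.not_mem_nil, or_false] at h1
  have h1' : cnt 11 1 0 Y = 10 := h1.resolve_right fun h3 => hne (hcard.2 h3)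
  have hn : (ms chevE8 8 (vecL 11 Y)) = (ms chevE8 8 (vecL 11 Y)).map (fun a => (-1 : ZMod 11) * a) := by
    conv_lhs => rw [ms_neg]
    refine Multiset.map_congr rfl fun a _ => ?_
    rw [neg_one_mul]
  have hus : ∀ u : ZMod 11, u ≠ 0 → ms chevE8 8 (vecL 11 Y) = (ms chevE8 8 (vecL 11 Y)).map (fun a => u * a) := by
    intro u hu
    obtain ⟨k, -, j, -, hk⟩ := gen11 u hu
    rw [hk]
    exact map_mul_mul (map_mul_pow h.frob k) (map_mul_pow hn j)
  have := bc_prime h hus hd
  rw [h1'] at this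
  push_cast at this
  linear_combination this / 10

end Cfsg.Agent.H942.E8Val
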