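import Mathlib
import Cfsg.Agent.H942.Pool

/-!
# Conjugacy classes by chains of conjugations with given elements
-/

set_option autoImplicit false

namespace Cfsg.Agent.H942.Forest

open Cfsg.Agent.H942.Enum Cfsg.Agent.H942.Pool

variable {Γ : Type*} [Group Γ] {α : Type} (S : Sys Γ α)

/-- every entry from the `r`-th on is a conjugate of an earlier one by a member of `B`; `B'` are the inverses -/
def chkForest (mul : α → α → α) (beq : α → α → Bool) (dflt : α) (B B' : List α) (r : ℕ) (Fo : List α)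
    (par : List (ℕ × ℕ)) (root : List ℕ) : Bool :=
  (List.range r).all (fun i => Nat.beq (root.getD i 0) i) &&
  (List.range (Fo.length - r)).all fun i =>
    let p := par.getD i (0, 0)
    Nat.blt p.1 B.length && Nat.blt p.2 (r + i) &&
      beq (mul (mul (B'.getD p.1 dflt) (Fo.getD p.2 dflt)) (B.getD p.1 dflt)) (Fo.getD (r + i) dflt) &&
      Nat.beq (root.getD p.2 0) (root.getD (r + i) 0)

theorem exists_forest {dflt : α} {B B' : List α} {r : ℕ} {Fo : List α} {par : List (ℕ × ℕ)} {root : List ℕ}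
    {b c : ℕ → Γ} (hb : ∀ i < B.length, S.R (b i) (B.getD i dflt))
    (hb' : ∀ i < B.length, S.R (b i)⁻¹ (B'.getD i dflt))
    (hc : ∀ i < r, S.R (c i) (Fo.getD i dflt))
    (h : chkForest S.mul S.beq dflt B B' r Fo par root = true) :
    ∀ i < Fo.length, ∃ g h : Γ, S.R g (Fo.getD i dflt) ∧ root.getD i 0 < r ∧ g = h⁻¹ * c (root.getD i 0) * h := by
  rw [chkForest, Bool.and_eq_true, List.all_eq_true, List.all_eq_true] at h
  obtain ⟨h1, h2⟩ := h
  intro i
  induction i using Nat.strong_induction_on with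
  | _ i ih =>
    intro hi
    by_cases hir : i < r
    · have h3 := Nat.eq_of_beq_eq_true (h1 i (List.mem_range.2 hir))
      exact ⟨c i, 1, hc i hir, by rw [h3]; exact hir, by rw [h3]; simp⟩
    · obtain ⟨j, rfl⟩ : ∃ j, i = r + j := ⟨i - r, by omega⟩
      have h3 := h2 j (by rw [List.mem_range]; omega)
      simp only [Bool.and_eq_true, Nat.blt_eq] at h3
      obtain ⟨⟨⟨h4, h5⟩, h6⟩, h7⟩ := h3
      obtain ⟨g, x, hg, hlt, hgx⟩ := ih (par.getD j (0, 0)).2 h5 (by omega)
      have h8 := S.R_mul (S.R_mul (hb' _ h4) hg) (hb _ h4)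
      rw [S.beq_eq h6] at h8
      refine ⟨_, x * b (par.getD j (0, 0)).1, h8, ?_, ?_⟩
      · rw [← Nat.eq_of_beq_eq_true h7]
        exact hlt
      · rw [← Nat.eq_of_beq_eq_true h7, hgx]
        group

/-- the same check with the equation `g b = b g'` instead of `g' = b⁻¹ g b` -/
def chkForest' (mul : α → α → α) (beq : α → α → Bool) (dflt : α) (B : List α) (r : ℕ) (Fo : List α)
    (par : List (ℕ × ℕ)) (root : List ℕ) : Bool :=
  (List.range r).all (fun i => Nat.beq (root.getD i 0) i) &&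
  (List.range (Fo.length - r)).all fun i =>
    let p := par.getD i (0, 0)
    Nat.blt p.1 B.length && Nat.blt p.2 (r + i) &&
      beq (mul (Fo.getD p.2 dflt) (B.getD p.1 dflt)) (mul (B.getD p.1 dflt) (Fo.getD (r + i) dflt)) &&
      Nat.beq (root.getD p.2 0) (root.getD (r + i) 0)

theorem exists_forest' {dflt : α} {B : List α} {r : ℕ} {Fo : List α} {par : List (ℕ × ℕ)} {root : List ℕ}
    (hcj : ∀ {g b : Γ} {x y z : α}, S.R g x → S.R b y → S.beq (S.mul x y) (S.mul y z) = true → S.R (b⁻¹ * g * b) z)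
    {b c : ℕ → Γ} (hb : ∀ i < B.length, S.R (b i) (B.getD i dflt))
    (hc : ∀ i < r, S.R (c i) (Fo.getD i dflt))
    (h : chkForest' S.mul S.beq dflt B r Fo par root = true) :
    ∀ i < Fo.length, ∃ g h : Γ, S.R g (Fo.getD i dflt) ∧ root.getD i 0 < r ∧ g = h⁻¹ * c (root.getD i 0) * h := by
  rw [chkForest', Bool.and_eq_true, List.all_eq_true, List.all_eq_true] at h
  obtain ⟨h1, h2⟩ := h
  intro i
  induction i using Nat.strong_induction_on with
  | _ i ih =>
    intro hi
    by_cases hir : i < r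
    · have h3 := Nat.eq_of_beq_eq_true (h1 i (List.mem_range.2 hir))
      exact ⟨c i, 1, hc i hir, by rw [h3]; exact hir, by rw [h3]; simp⟩
    · obtain ⟨j, rfl⟩ : ∃ j, i = r + j := ⟨i - r, by omega⟩
      have h3 := h2 j (by rw [List.mem_range]; omega)
      simp only [Bool.and_eq_true, Nat.blt_eq] at h3
      obtain ⟨⟨⟨h4, h5⟩, h6⟩, h7⟩ := h3
      obtain ⟨g, x, hg, hlt, hgx⟩ := ih (par.getD j (0, 0)).2 h5 (by omega)
      have h8 := hcj hg (hb _ h4) h6
      refine ⟨_, x * b (par.getD j (0, 0)).1, h8, ?_, ?_⟩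
      · rw [← Nat.eq_of_beq_eq_true h7]
        exact hlt
      · rw [← Nat.eq_of_beq_eq_true h7, hgx]
        group

/-- the check that the members of `E` are equivalent to members of the forest -/
def chkIdx (eqv : α → α → Bool) (dflt : α) (E Fo : List α) (idx : List ℕ) : Bool :=
  (List.range E.length).all fun i =>
    Nat.blt (idx.getD i 0) Fo.length && eqv (E.getD i dflt) (Fo.getD (idx.getD i 0) dflt)

theorem val_of_forest {dflt : α} {E Fo : List α} {root idx : List ℕ} {r : ℕ} {e c : ℕ → Γ}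
    {A : Type*} {φ : Γ ⧸ Subgroup.center Γ → A} (hφ : ∀ g h : Γ ⧸ Subgroup.center Γ, φ (h⁻¹ * g * h) = φ g)
    (hF : ∀ i < Fo.length, ∃ g h : Γ, S.R g (Fo.getD i dflt) ∧ root.getD i 0 < r ∧ g = h⁻¹ * c (root.getD i 0) * h)
    (he : ∀ i < E.length, S.R (e i) (E.getD i dflt))
    (h : chkIdx S.eqv dflt E Fo idx = true) :
    ∀ i < E.length, root.getD (idx.getD i 0) 0 < r ∧
      φ (QuotientGroup.mk (e i)) = φ (QuotientGroup.mk (c (root.getD (idx.getD i 0) 0))) := by
  intro i hi
  rw [chkIdx, List.all_eq_true] at h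
  have h1 := h i (List.mem_range.2 hi)
  simp only [Bool.and_eq_true, Nat.blt_eq] at h1
  obtain ⟨g, x, hg, hlt, hgx⟩ := hF _ h1.1
  refine ⟨hlt, ?_⟩
  rw [S.R_eqv (he i hi) hg h1.2, hgx]
  exact hφ (QuotientGroup.mk (c (root.getD (idx.getD i 0) 0))) (QuotientGroup.mk x)

/-- the number of indices below `n` with `f i = k` -/
def cntK (n : ℕ) (f : ℕ → ℕ) (k : ℕ) : ℕ := ((List.range n).map fun i => bif Nat.beq (f i) k then 1 else 0).sum

theorem cntK_eq (n : ℕ) (f : ℕ → ℕ) (k : ℕ) : cntK n f k = ((Finset.range n).filter fun i => f i = k).card := by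
  rw [cntK, Finset.card_filter]
  induction n with
  | zero => rfl
  | succ n ih =>
    rw [List.range_succ, List.map_append, List.sum_append, ih, Finset.sum_range_succ]
    congr 1
    rw [List.map_singleton, List.sum_singleton]
    by_cases h : f n = k
    · rw [if_pos h, h]
      have : Nat.beq k k = true := Nat.beq_refl k
      rw [this, cond_true]
    · rw [if_neg h]
      have : Nat.beq (f n) k = false := by
        rw [Bool.eq_false_iff]
        exact fun h2 => h (Nat.eq_of_beq_eq_true h2)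
      rw [this, cond_false]

theorem sum_of {A : Type*} [AddCommMonoid A] {n r : ℕ} {f : ℕ → ℕ} (hf : ∀ i < n, f i < r) (ψ : ℕ → A) :
    ∑ i ∈ Finset.range n, ψ (f i) = ∑ k ∈ Finset.range r, cntK n f k • ψ k := by
  classical
  rw [← Finset.sum_fiberwise_of_maps_to (s := Finset.range n) (t := Finset.range r) (g := f)]
  · refine Finset.sum_congr rfl fun k _ => ?_
    rw [cntK_eq]
    rw [Finset.sum_congr rfl (g := fun _ => ψ k), Finset.sum_const]
    intro i hi
    rw [(Finset.mem_filter.1 hi).2]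
  · intro i hi
    exact Finset.mem_range.2 (hf i (Finset.mem_range.1 hi))

end Cfsg.Agent.H942.Forest
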