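import Mathlib
import Cfsg.Agent.H942.E8Val
import Cfsg.Agent.H942.Forest
import Cfsg.Agent.H597.BrInv
import Cfsg.Agent.Blocks.ExistsModular

/-!
# Sums of Brauer character values over subgroups given by tables
-/

set_option autoImplicit false

namespace Cfsg.Agent.H942.Common

open Cfsg Cfsg.Lie Cfsg.Agent.H657 IsLocalRing Module
open Cfsg.Agent.H942.E8Alc Cfsg.Agent.H942.E8Val Cfsg.Agent.H942.Enum Cfsg.Agent.H942.Forest

variable {V : ValuationSubring ℂ} [CharP (ResidueField V) 3]

theorem exists_V : ∃ (M : Ideal AlgInt) (V : ValuationSubring ℂ), IsPModular 3 M ∧ Above M V ∧ CharP (ResidueField V) 3 := by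
  have : Fact (Nat.Prime 3) := ⟨Nat.prime_three⟩
  obtain ⟨M, hM⟩ := Cfsg.Agent.Blocks.ExistsModular.exists_isPModular Nat.prime_three
  obtain ⟨V, hV⟩ := exists_above hM
  exact ⟨M, V, hM, hV, hV.charP hM⟩

/-- the restriction to a subgroup -/
noncomputable abbrev res {Q : Type*} [Group Q] (F : Q →* ↥(chevE8.group (ZMod 3))) (P : Subgroup Q) :
    Representation (ResidueField V) P (chevE8.Idx → ResidueField V) :=
  adj V (F.comp P.subtype)

theorem bc_res {Q : Type*} [Group Q] (F : Q →* ↥(chevE8.group (ZMod 3))) (P : Subgroup Q) (g : P) :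
    bc 3 (res (V := V) F P) g = bc 3 (adj V F) (g : Q) := rfl

theorem bc_conj' {Q : Type*} [Group Q] (F : Q →* ↥(chevE8.group (ZMod 3))) (g h : Q) :
    bc 3 (adj V F) (h⁻¹ * g * h) = bc 3 (adj V F) g := by
  have := bc_conj 3 (adj V F) g h⁻¹
  rwa [inv_inv] at this

theorem sum_table {M : Ideal AlgInt} (hM : IsPModular 3 M) (hV : Above M V) {Q : Type*} [Group Q]
    (F : Q →* ↥(chevE8.group (ZMod 3))) {n m : ℕ} {e s : ℕ → Q} {t : ℕ → ℕ → ℕ} (h : Table n m e s t)
    (hn : n.Coprime 3) :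
    ∑ i ∈ Finset.range n, bc 3 (adj V F) (e i) =
      (n : ℂ) * (finrank (ResidueField V) (res (V := V) F h.grp).invariants : ℂ) := by
  classical
  have := h.finite
  have : Fintype h.grp := Fintype.ofFinite _
  have h1 := Cfsg.Agent.H597.BrInv.C hM hV (P := h.grp)
    (by rw [← Nat.card_eq_fintype_card, h.card]; exact hn) (res (V := V) F h.grp)
  rw [← Nat.card_eq_fintype_card, h.card] at h1
  rw [← h1, ← h.sum (fun q => bc 3 (adj V F) q)]
  rfl

end Cfsg.Agent.H942.Common
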