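import Mathlib
import Cfsg.Agent.H942.Common

/-!
# Brauer character values on a cyclic group; constituents of reductions of ordinary characters
-/

set_option autoImplicit false
set_option linter.unusedSectionVars false

namespace Cfsg.Agent.H942.BcRoots

open Cfsg Cfsg.Agent.H657 IsLocalRing Module Polynomial
open Cfsg.Agent.H942.E8Alc Cfsg.Agent.H608.BlockRank

attribute [local instance] Above.isAlgClosed

variable {V : ValuationSubring ℂ} [CharP (ResidueField V) 3] {G : Type*} [Group G]

/-- Brauer characters are sums over the composition factors -/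
theorem bc_factors {W : Type*} [AddCommGroup W] [Module (ResidueField V) W] [FiniteDimensional (ResidueField V) W]
    [Finite G] (σ : Representation (ResidueField V) G W) :
    ∃ (m : ℕ) (n : Fin m → ℕ) (τ : ∀ i, Representation (ResidueField V) G (Fin (n i) → ResidueField V)),
      (∀ i, (τ i).IsIrreducible) ∧ ∀ g, bc 3 σ g = ∑ i, bc 3 (τ i) g := by
  classical
  have := Fintype.ofFinite G
  have hinf : Infinite (ResidueField V) := IsAlgClosed.instInfinite
  obtain ⟨m, n, τ, hτ, hdet⟩ := Factors.exists_factors σ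
  have hdet' : ∀ a : G → ResidueField V, LinearMap.det (∑ g, a g • σ g) =
      ∏ i, LinearMap.det (∑ g, a g • τ i g) := by
    intro a
    have h1 := hdet (∑ g, MonoidAlgebra.single g (a g))
    simp only [map_sum, Representation.asAlgebraHom_single] at h1
    exact h1
  have hchar : ∀ g, LinearMap.charpoly (σ g) = ∏ i, LinearMap.charpoly (τ i g) := by
    intro g
    refine Polynomial.funext fun t => ?_
    rw [LinearMap.eval_charpoly, Polynomial.eval_prod]
    have h1 := hdet' (fun h => (if h = 1 then t else 0) - (if h = g then 1 else 0))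
    rw [sum_aux] at h1
    rw [h1]
    refine Finset.prod_congr rfl fun i _ => ?_
    rw [sum_aux, LinearMap.eval_charpoly]
  refine ⟨m, n, τ, hτ, fun g => ?_⟩
  unfold bc
  rw [hchar, Polynomial.roots_prod _ _ (Finset.prod_ne_zero_iff.2 fun i _ =>
    (LinearMap.charpoly_monic _).ne_zero), Multiset.map_bind, Multiset.sum_bind]
  rfl

theorem charpoly_smul_one {W : Type*} [AddCommGroup W] [Module (ResidueField V) W]
    [FiniteDimensional (ResidueField V) W] (c : ResidueField V) :
    LinearMap.charpoly (c • (1 : Module.End (ResidueField V) W)) = (X - C c) ^ finrank (ResidueField V) W := by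
  have hinf : Infinite (ResidueField V) := IsAlgClosed.instInfinite
  refine Polynomial.funext fun t => ?_
  rw [LinearMap.eval_charpoly, eval_pow, eval_sub, eval_X, eval_C]
  have : algebraMap (ResidueField V) (Module.End (ResidueField V) W) t - c • 1 = (t - c) • 1 := by
    rw [Algebra.algebraMap_eq_smul_one, sub_smul]
  rw [this]
  have h2 := LinearMap.det_smul (t - c) (1 : Module.End (ResidueField V) W)
  rw [map_one, mul_one] at h2
  exact h2

theorem bc_smul_one {W : Type*} [AddCommGroup W] [Module (ResidueField V) W]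
    [FiniteDimensional (ResidueField V) W] (σ : Representation (ResidueField V) G W) {g : G} {c : ResidueField V}
    (h : σ g = c • (1 : Module.End (ResidueField V) W)) : bc 3 σ g = finrank (ResidueField V) W * lift 3 c := by
  unfold bc
  rw [h, charpoly_smul_one, roots_pow, roots_X_sub_C, Multiset.nsmul_singleton, Multiset.map_replicate,
    Multiset.sum_replicate, nsmul_eq_mul]

theorem bc_one' {W : Type*} [AddCommGroup W] [Module (ResidueField V) W]
    [FiniteDimensional (ResidueField V) W] (σ : Representation (ResidueField V) G W) :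
    bc 3 σ 1 = finrank (ResidueField V) W := by
  rw [bc_smul_one σ (c := 1) (by rw [map_one, one_smul]), lift_one, mul_one]

/-- irreducible representations of cyclic groups are one-dimensional -/
theorem cyc_irr {n : ℕ} (σ : Representation (ResidueField V) G (Fin n → ResidueField V)) (hσ : σ.IsIrreducible)
    {x : G} (hx : ∀ g : G, ∃ i : ℕ, g = x ^ i) {N : ℕ} (hN : x ^ N = 1) :
    ∃ r : ResidueField V, r ^ N = 1 ∧ n = 1 ∧ ∀ i : ℕ, σ (x ^ i) = r ^ i • (1 : Module.End _ _) := by
  have hn := finrank_ne_zero' σ hσ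
  have : Nontrivial (Fin n → ResidueField V) := nontrivial_of_finrank_pos (R := ResidueField V) (Nat.pos_of_ne_zero hn)
  obtain ⟨r, hr⟩ := Module.End.exists_eigenvalue (σ x)
  obtain ⟨v, hv⟩ := hr.exists_hasEigenvector
  have hpow : ∀ i : ℕ, σ (x ^ i) v = r ^ i • v := by
    intro i
    induction i with
    | zero => simp
    | succ i ih =>
      rw [pow_succ, map_mul, Module.End.mul_apply, hv.apply_eq_smul, map_smul, ih, smul_smul, pow_succ, mul_comm]
  let U : Subrepresentation σ :=
    { toSubmodule := (ResidueField V) ∙ v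
      apply_mem_toSubmodule := by
        intro g w hw
        obtain ⟨c, rfl⟩ := Submodule.mem_span_singleton.1 hw
        obtain ⟨i, rfl⟩ := hx g
        rw [map_smul, hpow]
        exact Submodule.smul_mem _ _ (Submodule.smul_mem _ _ (Submodule.mem_span_singleton_self v)) }
  have hU : U = ⊤ := by
    rcases hσ.eq_bot_or_eq_top U with h1 | h1
    · exfalso
      have h2 : ((ResidueField V) ∙ v) = ⊥ := congrArg Subrepresentation.toSubmodule h1
      exact hv.2 (Submodule.span_singleton_eq_bot.1 h2)
    · exact h1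
  have hU' : ((ResidueField V) ∙ v) = ⊤ := congrArg Subrepresentation.toSubmodule hU
  have hsc : ∀ i : ℕ, σ (x ^ i) = r ^ i • (1 : Module.End _ _) := by
    intro i
    refine LinearMap.ext fun w => ?_
    have hw : w ∈ ((ResidueField V) ∙ v) := hU' ▸ Submodule.mem_top
    obtain ⟨c, rfl⟩ := Submodule.mem_span_singleton.1 hw
    rw [map_smul, hpow, LinearMap.smul_apply, Module.End.one_apply, smul_comm]
  refine ⟨r, ?_, ?_, hsc⟩
  · have h1 := hpow N
    rw [hN, map_one, Module.End.one_apply] at h1
    by_contra hne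
    have h3 : (r ^ N - 1) • v = 0 := by
      rw [sub_smul, ← h1, one_smul, sub_self]
    rcases smul_eq_zero.1 h3 with h4 | h4
    · exact hne (sub_eq_zero.1 h4)
    · exact hv.2 h4
  · have h1 := finrank_span_singleton (K := ResidueField V) hv.2
    rw [hU', finrank_top] at h1
    simpa using h1

/-- the values of a Brauer character at the powers of an element -/
theorem exists_roots {W : Type*} [AddCommGroup W] [Module (ResidueField V) W] [FiniteDimensional (ResidueField V) W]
    (σ : Representation (ResidueField V) G W) {x : G} {N : ℕ} (hN0 : N ≠ 0) (hN : x ^ N = 1) (h3 : ¬ 3 ∣ N) :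
    ∃ (m : ℕ) (r : Fin m → ResidueField V), (∀ l, r l ^ N = 1) ∧ ∀ i : ℕ, bc 3 σ (x ^ i) = ∑ l, lift 3 (r l) ^ i := by
  have hfin : IsOfFinOrder x := isOfFinOrder_iff_pow_eq_one.2 ⟨N, Nat.pos_of_ne_zero hN0, hN⟩
  have hP : Finite (Subgroup.zpowers x) := by
    have := hfin.finite_zpowers
    exact this
  let x' : Subgroup.zpowers x := ⟨x, Subgroup.mem_zpowers x⟩
  have hx' : ∀ g : Subgroup.zpowers x, ∃ i : ℕ, g = x' ^ i := by
    rintro ⟨g, hg⟩
    obtain ⟨i, hi⟩ := (hfin.mem_powers_iff_mem_zpowers.2 hg)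
    exact ⟨i, Subtype.ext hi.symm⟩
  have hN' : x' ^ N = 1 := Subtype.ext hN
  obtain ⟨m, n, τ, hτ, hbc⟩ := bc_factors (σ.comp (Subgroup.zpowers x).subtype)
  choose r hr1 hr2 hr3 using fun l => cyc_irr (τ l) (hτ l) hx' hN'
  refine ⟨m, r, hr1, fun i => ?_⟩
  have h1 : bc 3 σ (x ^ i) = bc 3 (σ.comp (Subgroup.zpowers x).subtype) (x' ^ i) := rfl
  rw [h1, hbc]
  refine Finset.sum_congr rfl fun l _ => ?_
  rw [bc_smul_one (τ l) (hr3 l i), Module.finrank_fin_fun, hr2 l, Nat.cast_one, one_mul]
  exact lift_pow ⟨N, h3, hr1 l⟩ i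

/-- multiplicities of eigenvalues are natural numbers -/
theorem exists_mult {W : Type*} [AddCommGroup W] [Module (ResidueField V) W] [FiniteDimensional (ResidueField V) W]
    (σ : Representation (ResidueField V) G W) {x : G} {N : ℕ} (hN0 : N ≠ 0) (hN : x ^ N = 1) (h3 : ¬ 3 ∣ N) {ω : ℂ}
    (hω : ω ^ N = 1) : ∃ k : ℕ, ∑ i ∈ Finset.range N, bc 3 σ (x ^ i) * ω ^ i = (N : ℂ) * (k : ℂ) := by
  classical
  obtain ⟨m, r, hr, hbc⟩ := exists_roots σ hN0 hN h3
  refine ⟨(Finset.univ.filter fun l => lift 3 (r l) * ω = 1).card, ?_⟩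
  have h1 : ∀ i ∈ Finset.range N, bc 3 σ (x ^ i) * ω ^ i = ∑ l, (lift 3 (r l) * ω) ^ i := by
    intro i _
    rw [hbc, Finset.sum_mul]
    exact Finset.sum_congr rfl fun l _ => (mul_pow _ _ _).symm
  rw [Finset.sum_congr rfl h1, Finset.sum_comm]
  have h2 : ∀ l, ∑ i ∈ Finset.range N, (lift 3 (r l) * ω) ^ i = if lift 3 (r l) * ω = 1 then (N : ℂ) else 0 := by
    intro l
    split_ifs with h
    · simp [h]
    · have h4 := geom_sum_mul (lift 3 (r l) * ω) N
      have h5 : lift 3 (r l) ^ N = 1 := by
        rw [← lift_pow ⟨N, h3, hr l⟩ N, hr l, lift_one]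
      rw [mul_pow, hω, h5, mul_one, sub_self] at h4
      exact (mul_eq_zero.1 h4).resolve_right (sub_ne_zero.2 h)
  rw [Finset.sum_congr rfl fun l _ => h2 l, ← Finset.sum_filter, Finset.sum_const, nsmul_eq_mul, mul_comm]

/-- every irreducible Brauer character is a constituent of the reduction of an ordinary character -/
theorem exists_constituent [Finite G] {M : Ideal AlgInt} (hM : IsPModular 3 M) (hV : Above M V) (i : IBr V G) :
    ∃ (χ : G → ℂ) (m : ℕ) (idx : Fin m → IBr V G) (l : Fin m), IsIrrCharacter G χ ∧ idx l = i ∧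
      ∀ g, IsPRegular 3 g → χ g = ∑ l, phi 3 (idx l) g := by
  classical
  have : Fact (Nat.Prime 3) := ⟨Nat.prime_three⟩
  choose m idx h1 h2 using fun χ : IrrCharacter G => exists_decomp hM hV χ.2
  let S : Set (IBr V G) := {j | ∃ (χ : IrrCharacter G) (l : Fin (m χ)), idx χ l = j}
  have hS : ∀ χ : IrrCharacter G, pReg 3 (χ : G → ℂ) ∈ Submodule.span ℂ (phi 3 '' S) := by
    intro χ
    have h3 : pReg 3 (χ : G → ℂ) = ∑ l, phi 3 (idx χ l) := by
      funext g
      rw [Finset.sum_apply]
      by_cases h : IsPRegular 3 g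
      · rw [pReg_of h, h2 χ g h]
      · rw [pReg_of_not h]
        exact (Finset.sum_eq_zero fun l _ => phi_of_not _ h).symm
    rw [h3]
    exact Submodule.sum_mem _ fun l _ => Submodule.subset_span ⟨_, ⟨χ, l, rfl⟩, rfl⟩
  have hle : (charSpan (Set.univ : Set (IrrCharacter G))).map (pReg 3) ≤ Submodule.span ℂ (phi 3 '' S) := by
    unfold charSpan
    rw [Submodule.map_span, Submodule.span_le]
    rintro _ ⟨_, ⟨χ, hχ, rfl⟩, rfl⟩
    exact hS χ
  have hi : i ∈ S := by
    by_contra hcon
    exact (linearIndependent_phi (V := V) (G := G) (p := 3)).notMem_span_image hcon (hle (phi_mem_all (p := 3) i))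
  obtain ⟨χ, l, hl⟩ := hi
  exact ⟨χ, m χ, idx χ, l, χ.2, hl, h2 χ⟩

end Cfsg.Agent.H942.BcRoots
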