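import Mathlib
import Cfsg.Agent.H942.Common

/-!
# Rank one idempotents of subgroups
-/

set_option autoImplicit false

namespace Cfsg.Agent.H942.Core

open Cfsg Cfsg.Lie Cfsg.Agent.H657 IsLocalRing Module
open Cfsg.Agent.H942.E8Alc Cfsg.Agent.H942.E8Val Cfsg.Agent.H942.Enum Cfsg.Agent.H942.Common

section table

variable {Q : Type*} [Group Q] {n m : ℕ} {e s : ℕ → Q} {t : ℕ → ℕ → ℕ}

theorem Tgen_mem (h : Table n m e s t) {j : ℕ} (hj : j < m) : s j ∈ h.grp := by
  have h1 := h.mul 0 h.pos j hj
  rw [h.one, one_mul] at h1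
  exact ⟨_, h.lt 0 h.pos j hj, h1⟩

theorem Te_mem (h : Table n m e s t) {i : ℕ} (hi : i < n) : e i ∈ h.grp := ⟨i, hi, rfl⟩

/-- conjugation by `p` preserves the subgroup if it does so for the generators -/
theorem conj_mem (h : Table n m e s t) {p : Q} (hp : ∀ j < m, ∃ k < n, s j * p = p * e k) {g : Q} (hg : g ∈ h.grp) :
    p⁻¹ * g * p ∈ h.grp := by
  obtain ⟨i, hi, rfl⟩ := hg
  induction i using Nat.strong_induction_on with
  | _ i ih =>
    by_cases h0 : i = 0
    · subst h0
      rw [h.one, mul_one, inv_mul_cancel]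
      exact one_mem _
    · obtain ⟨i', hi', j, hj, ht⟩ := h.par i hi h0
      obtain ⟨k, hk, hk'⟩ := hp j hj
      have h1 := ih i' hi' (by omega)
      have h2 := h.mul i' (by omega) j hj
      rw [ht] at h2
      have h3 : p⁻¹ * e i * p = (p⁻¹ * e i' * p) * e k := by
        rw [← h2]
        have h4 : e k = p⁻¹ * (s j * p) := by rw [hk']; group
        rw [h4]
        group
      rw [h3]
      exact mul_mem h1 ⟨k, hk, rfl⟩

variable {R : Type*} [Ring R] (ρ : Q →* R)

/-- the sum of the elements of the subgroup -/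
def su (ρ : Q →* R) (n : ℕ) (e : ℕ → Q) : R := ∑ i ∈ Finset.range n, ρ (e i)

theorem su_eq (h : Table n m e s t) [Fintype h.grp] : su ρ n e = ∑ g : h.grp, ρ g :=
  (h.sum (fun q => ρ q)).symm

theorem su_mul (h : Table n m e s t) {g : Q} (hg : g ∈ h.grp) : su ρ n e * ρ g = su ρ n e := by
  classical
  have := h.finite
  have : Fintype h.grp := Fintype.ofFinite _
  rw [su_eq ρ h, Finset.sum_mul]
  refine Fintype.sum_equiv (Equiv.mulRight (⟨g, hg⟩ : h.grp)) _ _ fun x => ?_
  rw [Equiv.coe_mulRight, Subgroup.coe_mul, map_mul]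

theorem mul_su (h : Table n m e s t) {g : Q} (hg : g ∈ h.grp) : ρ g * su ρ n e = su ρ n e := by
  classical
  have := h.finite
  have : Fintype h.grp := Fintype.ofFinite _
  rw [su_eq ρ h, Finset.mul_sum]
  refine Fintype.sum_equiv (Equiv.mulLeft (⟨g, hg⟩ : h.grp)) _ _ fun x => ?_
  rw [Equiv.coe_mulLeft, Subgroup.coe_mul, map_mul]

theorem su_comm (h : Table n m e s t) {p : Q} (hp : ∀ g ∈ h.grp, p⁻¹ * g * p ∈ h.grp) :
    su ρ n e * ρ p = ρ p * su ρ n e := by
  classical
  have := h.finite
  have : Fintype h.grp := Fintype.ofFinite _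
  rw [su_eq ρ h, Finset.mul_sum, Finset.sum_mul]
  let f : h.grp → h.grp := fun g => ⟨p⁻¹ * g * p, hp g g.2⟩
  have hf : Function.Injective f := by
    intro a b hab
    have h1 : p⁻¹ * (a : Q) * p = p⁻¹ * b * p := Subtype.ext_iff.1 hab
    exact Subtype.ext (mul_left_cancel (mul_right_cancel h1))
  refine Fintype.sum_bijective f (Finite.injective_iff_bijective.1 hf) _ _ fun x => ?_
  rw [← map_mul, ← map_mul]
  congr 1
  show (x : Q) * p = p * (p⁻¹ * x * p)
  group

/-- product of the sums of a subgroup and a larger one -/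
theorem su_mul_su (h : Table n m e s t) {e' : ℕ → Q} {n' : ℕ} (hsub : ∀ i < n', e' i ∈ h.grp) :
    su ρ n e * su ρ n' e' = (n' : R) * su ρ n e := by
  rw [su, su, Finset.mul_sum, Finset.sum_congr rfl (g := fun _ => su ρ n e)]
  · rw [Finset.sum_const, Finset.card_range, nsmul_eq_mul]
    rfl
  · intro i hi
    exact su_mul ρ h (hsub i (Finset.mem_range.1 hi))

end table

/-- operators of rank one -/
theorem rank_one {K W : Type*} [Field K] [AddCommGroup W] [Module K W] (a : Module.End K W) (I : Submodule K W)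
    (h1 : finrank K I = 1) (ha : ∀ w, a w ∈ I) (b : Module.End K W) : ∃ μ : K, a * b * a = μ • a := by
  obtain ⟨v, -, hv⟩ := finrank_eq_one_iff'.1 h1
  obtain ⟨μ, hμ⟩ := hv ⟨a (b v), ha _⟩
  refine ⟨μ, LinearMap.ext fun w => ?_⟩
  obtain ⟨c, hc⟩ := hv ⟨a w, ha w⟩
  have hc' : c • (v : W) = a w := Subtype.ext_iff.1 hc
  have hμ' : μ • (v : W) = a (b v) := Subtype.ext_iff.1 hμ
  show a (b (a w)) = μ • a w
  rw [← hc', map_smul, map_smul, ← hμ', smul_comm]

section theta

variable {Q : Type*} [Group Q] (F : Q →* ↥(chevE8.group (ZMod 3)))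

/-- the matrices -/
noncomputable def mat : Q →* Matrix chevE8.Idx chevE8.Idx (ZMod 3) :=
  (Units.coeHom _).comp ((chevE8.group (ZMod 3)).subtype.comp F)

/-- the trace over the field with three elements -/
noncomputable def theta (q : Q) : ZMod 3 := Matrix.trace (mat F q)

theorem theta_conj (g h : Q) : theta F (h⁻¹ * g * h) = theta F g := by
  unfold theta
  rw [map_mul, Matrix.trace_mul_comm, ← map_mul]
  congr 2
  group

theorem trace_adj (V : ValuationSubring ℂ) [CharP (ResidueField V) 3] (q : Q) :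
    LinearMap.trace (ResidueField V) _ (adj V F q) = algebraMap (ZMod 3) (ResidueField V) (theta F q) := by
  unfold adj
  rw [matRep_apply, Matrix.trace_toLin'_eq]
  exact (AddMonoidHom.map_trace (algebraMap (ZMod 3) (ResidueField V)).toAddMonoidHom _).symm

attribute [local instance] Above.isAlgClosed

theorem z16 : ((16 : ℕ) : ZMod 3) = 1 := by decide

theorem zcube : ∀ x : ZMod 3, x = x ^ 3 := by decide

theorem theta_eq (V : ValuationSubring ℂ) [CharP (ResidueField V) 3]
    {q : Q} (hq : ¬ 3 ∣ orderOf q) {t : ℤ} (h : bc 3 (adj V F) q = t) : theta F q = (t : ZMod 3) := by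
  obtain ⟨z, h1, h2⟩ := bc_spec (p := 3) (adj V F) hq
  have h3 : z = (t : V) := by
    apply Subtype.ext
    rw [← h1, h]
    push_cast
    rfl
  rw [h3, map_intCast, trace_adj] at h2
  have h4 : algebraMap (ZMod 3) (ResidueField V) ((t : ZMod 3)) = algebraMap (ZMod 3) (ResidueField V) (theta F q) := by
    rw [map_intCast, h2]
  exact ((algebraMap (ZMod 3) (ResidueField V)).injective h4).symm

/-- elements of order 3 modulo a subgroup of order 16 -/
theorem coset3 {e s : ℕ → Q} {t : ℕ → ℕ → ℕ} (h : Table 16 4 e s t) {p : Q}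
    (hp : ∀ g ∈ h.grp, p⁻¹ * g * p ∈ h.grp) (hp3 : p * p * p ∈ h.grp) :
    ∑ j ∈ Finset.range 16, theta F (e j * p) = ∑ j ∈ Finset.range 16, theta F (e j) := by
  have : Fact (Nat.Prime 3) := ⟨Nat.prime_three⟩
  have h1 : ∑ j ∈ Finset.range 16, theta F (e j * p) = Matrix.trace (su (mat F) 16 e * mat F p) := by
    rw [su, Finset.sum_mul, Matrix.trace_sum]
    refine Finset.sum_congr rfl fun j _ => ?_
    rw [← map_mul]
    rfl
  have h2 : ∑ j ∈ Finset.range 16, theta F (e j) = Matrix.trace (su (mat F) 16 e) := by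
    rw [su, Matrix.trace_sum]
    rfl
  rw [h1, h2]
  have hc := su_comm (mat F) h hp
  have hs := su_mul_su (mat F) h (e' := e) (n' := 16) fun i hi => Te_mem h hi
  have h16 : ((16 : ℕ) : Matrix chevE8.Idx chevE8.Idx (ZMod 3)) = 1 := by
    rw [← map_natCast (algebraMap (ZMod 3) (Matrix chevE8.Idx chevE8.Idx (ZMod 3))), z16, map_one]
  rw [h16, one_mul] at hs
  set a := su (mat F) 16 e with ha
  set b := mat F p with hb
  have h3 : (a * b) ^ 3 = a := by
    have e1 : (a * b) ^ 3 = a * (b * a) * (b * a) * b := by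
      rw [pow_succ, pow_two]
      simp only [mul_assoc]
    rw [e1, ← hc]
    have e2 : a * (a * b) * (a * b) * b = (a * a) * (b * a) * b * b := by simp only [mul_assoc]
    rw [e2, hs, ← hc]
    have e3 : a * (a * b) * b * b = (a * a) * (b * b * b) := by simp only [mul_assoc]
    rw [e3, hs, hb, ← map_mul, ← map_mul]
    exact su_mul (mat F) h hp3
  have h4 := ZMod.trace_pow_card (p := 3) (a * b)
  rw [h3] at h4
  rw [h4]
  exact zcube _

end theta

theorem alg_core {K W : Type*} [Field K] [AddCommGroup W] [Module K W] (h3 : (3 : K) = 0)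
    {a o X Y D : Module.End K W} {z1 z2 z3 : K} (hne : a ≠ 0) (hao : a * o = (64 : K) • a) (hdec : a = o * (1 + D))
    (hxc : o * X = X * o) (hy : D * (Y * a) = Y * a) (m1 : a * (X * Y) * a = z1 • a) (m2 : a * X * a = z2 • a)
    (m3 : a * Y * a = z3 • a) : z2 * z3 = 2 * z1 := by
  have e1 : a * (X * a) = (64 : K) • (a * (X * (1 + D))) := by
    have e0 : a * (X * a) = a * (X * (o * (1 + D))) := by rw [← hdec]
    rw [e0, ← mul_assoc X o, ← hxc, mul_assoc o, ← mul_assoc a o, hao, smul_mul_assoc]
  have e2 : a * (X * (1 + D)) * (Y * a) = (2 : K) • (a * (X * Y) * a) := by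
    have e3 : a * (X * (1 + D)) * (Y * a) = a * X * (Y * a) + a * X * (D * (Y * a)) := by
      noncomm_ring
    rw [e3, hy, two_smul]
    simp only [mul_assoc]
  have k0 : a * (Y * a) = z3 • a := by rw [← mul_assoc, m3]
  have key : (z2 * z3) • a = (128 : K) • (a * (X * Y) * a) := by
    have k1 : a * X * a * (Y * a) = (z2 * z3) • a := by
      rw [m2, smul_mul_assoc, k0, smul_smul]
    rw [← k1, mul_assoc a X a, e1, smul_mul_assoc, e2, smul_smul]
    norm_num
  have h6 : (z2 * z3 - 128 * z1) • a = 0 := by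
    rw [sub_smul, key, m1, smul_smul, sub_self]
  have h7 := (smul_eq_zero.1 h6).resolve_right hne
  linear_combination h7 + 42 * z1 * h3

theorem mu_core {K W : Type*} [Field K] [AddCommGroup W] [Module K W] [FiniteDimensional K W] (h3 : (3 : K) = 0)
    {a b : Module.End K W} {μ : K} (hSS : a * a = (128 : K) • a) (htr : LinearMap.trace K W a = 2)
    (hμ : a * b * a = μ • a) : μ = LinearMap.trace K W (a * b) := by
  have h5 := congrArg (LinearMap.trace K W) hμ
  rw [LinearMap.trace_mul_comm, ← mul_assoc, hSS, smul_mul_assoc, map_smul, map_smul, htr, smul_eq_mul,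
    smul_eq_mul] at h5
  linear_combination h5 + (μ - 43 * LinearMap.trace K W (a * b)) * h3

set_option maxRecDepth 10000 in
/-- **The identity for rank one idempotents.** -/
theorem core {Q : Type*} [Group Q] (F : Q →* ↥(chevE8.group (ZMod 3))) (V : ValuationSubring ℂ)
    [CharP (ResidueField V) 3]
    {e s : ℕ → Q} {t : ℕ → ℕ → ℕ} (hS : Table 128 7 e s t) (hO : Table 64 6 e s t)
    (h64 : ∀ i < 64, e (64 + i) = e i * s 6) {x y : Q}
    (hx : ∀ g ∈ hO.grp, x⁻¹ * g * x ∈ hO.grp) (hy : y⁻¹ * s 6 * y ∈ hS.grp)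
    (hdim : finrank (ResidueField V) (res (V := V) F hS.grp).invariants = 1)
    (htr : ∑ i ∈ Finset.range 128, theta F (e i) = 2) :
    (∑ i ∈ Finset.range 128, theta F (e i * x)) * (∑ i ∈ Finset.range 128, theta F (e i * y)) =
      2 * ∑ i ∈ Finset.range 128, theta F (e i * (x * y)) := by
  have h3 : (3 : ResidueField V) = 0 := by exact_mod_cast CharP.cast_eq_zero (ResidueField V) 3
  -- the trace
  have htrace : ∀ g : Q, LinearMap.trace (ResidueField V) _ (su (adj V F) 128 e * adj V F g) =
      algebraMap (ZMod 3) (ResidueField V) (∑ i ∈ Finset.range 128, theta F (e i * g)) := by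
    intro g
    rw [su, Finset.sum_mul, map_sum, map_sum]
    refine Finset.sum_congr rfl fun i _ => ?_
    rw [← map_mul, ← trace_adj]
  have htrS : LinearMap.trace (ResidueField V) _ (su (adj V F) 128 e) = 2 := by
    have := htrace 1
    rw [map_one, mul_one] at this
    rw [this]
    simp only [mul_one]
    rw [htr, map_ofNat]
  -- invariants
  have hinv : ∀ w, (su (adj V F) 128 e) w ∈ (res (V := V) F hS.grp).invariants := by
    intro w g
    show (adj V F g * su (adj V F) 128 e) w = (su (adj V F) 128 e) w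
    rw [mul_su (adj V F) hS g.2]
  have hne : su (adj V F) 128 e ≠ 0 := by
    intro h0
    rw [h0, map_zero] at htrS
    have h5 : (1 : ResidueField V) = 0 := by linear_combination h3 + htrS
    exact one_ne_zero h5
  have hSS : su (adj V F) 128 e * su (adj V F) 128 e = (128 : ResidueField V) • su (adj V F) 128 e := by
    have := su_mul_su (adj V F) hS (e' := e) (n' := 128) fun i hi => Te_mem hS hi
    rw [this, ← nsmul_eq_mul, ← Nat.cast_smul_eq_nsmul (ResidueField V)]
    norm_num
  have hSO : su (adj V F) 128 e * su (adj V F) 64 e = (64 : ResidueField V) • su (adj V F) 128 e := by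
    have := su_mul_su (adj V F) hS (e' := e) (n' := 64) fun i hi => Te_mem hS (by omega)
    rw [this, ← nsmul_eq_mul, ← Nat.cast_smul_eq_nsmul (ResidueField V)]
    norm_num
  have hmu : ∀ g : Q, su (adj V F) 128 e * adj V F g * su (adj V F) 128 e =
      algebraMap (ZMod 3) (ResidueField V) (∑ i ∈ Finset.range 128, theta F (e i * g)) • su (adj V F) 128 e := by
    intro g
    obtain ⟨μ, hμ⟩ := rank_one (K := ResidueField V) (W := chevE8.Idx → ResidueField V) (su (adj V F) 128 e)
      (res (V := V) F hS.grp).invariants hdim hinv (adj V F g)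
    rw [hμ, mu_core h3 hSS htrS hμ, htrace]
  have hdec : su (adj V F) 128 e = su (adj V F) 64 e * (1 + adj V F (s 6)) := by
    have h5 : ∑ i ∈ Finset.range 64, adj V F (e (64 + i)) = (∑ i ∈ Finset.range 64, adj V F (e i)) * adj V F (s 6) := by
      rw [Finset.sum_mul]
      refine Finset.sum_congr rfl fun i hi => ?_
      rw [h64 i (Finset.mem_range.1 hi), map_mul]
    rw [su, su, show (128 : ℕ) = 64 + 64 from rfl, Finset.sum_range_add, mul_add, mul_one, h5]
  have hxc : su (adj V F) 64 e * adj V F x = adj V F x * su (adj V F) 64 e := su_comm (adj V F) hO hx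
  have hyc : adj V F (s 6) * (adj V F y * su (adj V F) 128 e) = adj V F y * su (adj V F) 128 e := by
    have h5 : adj V F (s 6) * adj V F y = adj V F y * adj V F (y⁻¹ * s 6 * y) := by
      have h6 : s 6 * y = y * (y⁻¹ * s 6 * y) := by group
      rw [← map_mul, ← map_mul, ← h6]
    rw [← mul_assoc, h5, mul_assoc, mul_su (adj V F) hS hy]
  have m1 := hmu (x * y)
  rw [map_mul] at m1
  have h9 := alg_core h3 hne hSO hdec hxc hyc m1 (hmu x) (hmu y)
  apply (algebraMap (ZMod 3) (ResidueField V)).injective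
  rw [map_mul, map_mul, map_ofNat]
  exact h9

end Cfsg.Agent.H942.Core
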