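import Mathlib

/-!
# Finite subgroups given by a table of right multiplication by generators
-/

set_option autoImplicit false

namespace Cfsg.Agent.H942.Enum

variable {Q : Type*} [Group Q]

/-- A finite subset `e 0, ..., e (n-1)` of a group closed under right multiplication by the generators `s j`. -/
structure Table (n m : ℕ) (e s : ℕ → Q) (t : ℕ → ℕ → ℕ) : Prop where
  pos : 0 < n
  one : e 0 = 1
  lt : ∀ i < n, ∀ j < m, t i j < n
  mul : ∀ i < n, ∀ j < m, e i * s j = e (t i j)
  inj : ∀ j < m, ∀ i < n, ∀ i' < n, t i j = t i' j → i = i'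
  par : ∀ i < n, i ≠ 0 → ∃ i' < i, ∃ j < m, t i' j = i
  ne : ∀ i < n, i ≠ 0 → e i ≠ 1

variable {n m : ℕ} {e s : ℕ → Q} {t : ℕ → ℕ → ℕ}

theorem Table.surj (h : Table n m e s t) {j : ℕ} (hj : j < m) {i : ℕ} (hi : i < n) : ∃ i' < n, t i' j = i := by
  let f : Fin n → Fin n := fun i => ⟨t i j, h.lt i i.2 j hj⟩
  have hf : Function.Injective f := fun a b hab => Fin.ext (h.inj j hj a a.2 b b.2 (Fin.ext_iff.1 hab))
  obtain ⟨i', hi'⟩ := (Finite.injective_iff_surjective.1 hf) ⟨i, hi⟩
  exact ⟨i', i'.2, Fin.ext_iff.1 hi'⟩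

theorem Table.injOn (h : Table n m e s t) : ∀ j < n, ∀ i < n, e i = e j → i = j := by
  intro j
  induction j using Nat.strong_induction_on with
  | _ j ih =>
    intro hj i hi hij
    by_cases hj0 : j = 0
    · subst hj0
      by_contra hne
      exact h.ne i hi hne (hij.trans h.one)
    · obtain ⟨j', hj'j, g, hg, hgj⟩ := h.par j hj hj0
      obtain ⟨i', hi', hgi⟩ := h.surj hg hi
      have h1 := h.mul i' hi' g hg
      have h2 := h.mul j' (hj'j.trans hj) g hg
      rw [hgi, hij] at h1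
      rw [hgj] at h2
      have h3 := ih j' hj'j (hj'j.trans hj) i' hi' (mul_right_cancel (h1.trans h2.symm))
      rw [← hgi, ← hgj, h3]

theorem Table.mul_mem (h : Table n m e s t) : ∀ j < n, ∀ i < n, ∃ k < n, e i * e j = e k := by
  intro j
  induction j using Nat.strong_induction_on with
  | _ j ih =>
    intro hj i hi
    by_cases hj0 : j = 0
    · subst hj0
      exact ⟨i, hi, by rw [h.one, mul_one]⟩
    · obtain ⟨j', hj'j, g, hg, hgj⟩ := h.par j hj hj0
      obtain ⟨k, hk, hk'⟩ := ih j' hj'j (hj'j.trans hj) i hi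
      refine ⟨t k g, h.lt k hk g hg, ?_⟩
      rw [← h.mul k hk g hg, ← hk', ← hgj, ← h.mul j' (hj'j.trans hj) g hg, mul_assoc]

theorem Table.inv_mem (h : Table n m e s t) {i : ℕ} (hi : i < n) : ∃ k < n, (e i)⁻¹ = e k := by
  choose f hf hf' using fun j : Fin n => h.mul_mem i hi j j.2
  let F : Fin n → Fin n := fun j => ⟨f j, hf j⟩
  have hF : Function.Injective F := by
    intro a b hab
    have h1 : f a = f b := Fin.ext_iff.1 hab
    have h2 : e a * e i = e b * e i := by rw [hf', hf', h1]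
    exact Fin.ext (h.injOn b b.2 a a.2 (mul_right_cancel h2))
  obtain ⟨k, hk⟩ := (Finite.injective_iff_surjective.1 hF) ⟨0, h.pos⟩
  refine ⟨k, k.2, ?_⟩
  have h1 := hf' k
  have h2 : f k = 0 := Fin.ext_iff.1 hk
  rw [h2, h.one] at h1
  exact (eq_inv_of_mul_eq_one_left h1).symm

/-- the table of the subgroup given by the first `n'` elements and the first `m'` generators -/
theorem Table.restrict (h : Table n m e s t) {n' m' : ℕ} (hn' : 0 < n') (hn : n' ≤ n) (hm : m' ≤ m)
    (hlt : ∀ i < n', ∀ j < m', t i j < n') (hpar : ∀ i < n', i ≠ 0 → ∃ i' < i, ∃ j < m', t i' j = i) :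
    Table n' m' e s t where
  pos := hn'
  one := h.one
  lt := hlt
  mul i hi j hj := h.mul i (by omega) j (by omega)
  inj j hj i hi i' hi' := h.inj j (by omega) i (by omega) i' (by omega)
  par := hpar
  ne i hi := h.ne i (by omega)

/-- the subgroup with the elements `e 0, ..., e (n-1)` -/
def Table.grp (h : Table n m e s t) : Subgroup Q where
  carrier := {g | ∃ i < n, g = e i}
  one_mem' := ⟨0, h.pos, h.one.symm⟩
  mul_mem' := by
    rintro _ _ ⟨i, hi, rfl⟩ ⟨j, hj, rfl⟩
    exact h.mul_mem j hj i hi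
  inv_mem' := by
    rintro _ ⟨i, hi, rfl⟩
    exact h.inv_mem hi

theorem Table.mem_grp (h : Table n m e s t) {g : Q} : g ∈ h.grp ↔ ∃ i < n, g = e i := Iff.rfl

/-- the elements are indexed by `Fin n` -/
noncomputable def Table.equiv (h : Table n m e s t) : Fin n ≃ h.grp :=
  Equiv.ofBijective (fun i => ⟨e i, i, i.2, rfl⟩) ⟨fun a b hab => Fin.ext
    (h.injOn b b.2 a a.2 (Subtype.ext_iff.1 hab)), by
      rintro ⟨_, i, hi, rfl⟩
      exact ⟨⟨i, hi⟩, rfl⟩⟩

theorem Table.card (h : Table n m e s t) : Nat.card h.grp = n := by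
  rw [← Nat.card_congr h.equiv, Nat.card_eq_fintype_card, Fintype.card_fin]

theorem Table.finite (h : Table n m e s t) : Finite h.grp := Finite.of_equiv _ h.equiv

theorem Table.sum (h : Table n m e s t) [Fintype h.grp] {A : Type*} [AddCommMonoid A] (φ : Q → A) :
    ∑ g : h.grp, φ g = ∑ i ∈ Finset.range n, φ (e i) := by
  rw [← h.equiv.sum_comp, Finset.sum_range]
  rfl

end Cfsg.Agent.H942.Enum
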