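import Cfsg.Agent.H597.L232

/-!
# Eigenvalue multiplicities of elements of order 11 in the characters of `PSL₂(32)`

All eigenvalues version of `H597.L232.T1`.
-/

set_option autoImplicit false
set_option linter.unusedSectionVars false

namespace Cfsg.Agent.H942.L32A

open Matrix Cfsg Cfsg.Agent.H984.EigCount Cfsg.Agent.H984.SLTwo Cfsg.Agent.H597.L232
open scoped ComplexConjugate

section abelian

variable {C : Type*} [Group C] [Finite C] [Fintype (IrrCharacter C)]

open Classical in
theorem sum_linear_w (hC : ∀ a b : C, a * b = b * a) (ψ : IrrCharacter C) (x : C) {ω : ℂ} (hω : ω ^ orderOf x = 1) :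
    ∑ i ∈ Finset.range (orderOf x), (ψ : C → ℂ) (x ^ i) * ω ^ i =
      if (ψ : C → ℂ) x * ω = 1 then (orderOf x : ℂ) else 0 := by
  obtain ⟨f, hf⟩ := Characters.Linear.exists_hom_of_isIrrCharacter ψ.2
    (S0898.irr_one_of_comm hC ψ.2)
  have h0 : ∀ i, (ψ : C → ℂ) (x ^ i) = ((ψ : C → ℂ) x) ^ i := by
    intro i
    rw [hf]
    simp
  have h1 : ∀ i, (ψ : C → ℂ) (x ^ i) * ω ^ i = ((ψ : C → ℂ) x * ω) ^ i := by
    intro i
    rw [h0, mul_pow]
  rw [Finset.sum_congr rfl fun i _ => h1 i]
  split_ifs with h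
  · simp [h]
  · have h2 := geom_sum_mul ((ψ : C → ℂ) x * ω) (orderOf x)
    rw [mul_pow, hω, ← h0, pow_orderOf_eq_one, S0898.irr_one_of_comm hC ψ.2, mul_one, sub_self] at h2
    exact (mul_eq_zero.1 h2).resolve_right (sub_ne_zero.2 h)

open Classical in
theorem card_w (hC : ∀ a b : C, a * b = b * a) (x : C) {ω : ℂ} (hω : ω ^ orderOf x = 1) :
    orderOf x * (Finset.univ.filter fun ψ : IrrCharacter C => (ψ : C → ℂ) x * ω = 1).card =
      Nat.card C := by
  have h1 : ∑ ψ : IrrCharacter C, ∑ i ∈ Finset.range (orderOf x), (ψ : C → ℂ) (x ^ i) * ω ^ i =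
      (orderOf x : ℂ) * ((Finset.univ.filter fun ψ : IrrCharacter C => (ψ : C → ℂ) x * ω = 1).card : ℂ) := by
    rw [Finset.sum_congr rfl fun ψ _ => sum_linear_w hC ψ x hω, ← Finset.sum_filter, Finset.sum_const,
      nsmul_eq_mul, mul_comm]
  have h2 : ∀ i ∈ Finset.range (orderOf x), ∑ ψ : IrrCharacter C, (ψ : C → ℂ) (x ^ i) * ω ^ i =
      if i = 0 then (Nat.card C : ℂ) else 0 := by
    intro i hi
    have h3 := Characters.Counting.sum_irr_one_mul (x ^ i)
    rw [Finset.sum_congr rfl fun ψ _ => by rw [S0898.irr_one_of_comm hC ψ.2, one_mul]] at h3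
    rw [← Finset.sum_mul, h3]
    have h4 : x ^ i = 1 ↔ i = 0 := by
      constructor
      · intro h
        by_contra h0
        exact pow_ne_one_of_lt_orderOf h0 (Finset.mem_range.1 hi) h
      · rintro rfl
        simp
    by_cases h0 : i = 0
    · subst h0
      simp
    · rw [if_neg h0, if_neg (fun h => h0 (h4.1 h)), zero_mul]
  rw [Finset.sum_comm, Finset.sum_congr rfl h2, Finset.sum_ite_eq' (Finset.range (orderOf x)) 0,
    if_pos (Finset.mem_range.2 (orderOf_pos x))] at h1
  exact_mod_cast h1.symm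

end abelian

variable {F : Type*} [Field F] [DecidableEq F] [Fintype F]

local notation "SL" => Matrix.SpecialLinearGroup (Fin 2) F
local notation "M₂" => Matrix (Fin 2) (Fin 2) F

/-- The statement for `SL₂(32)`. -/
theorem slw (hF : Fintype.card F = 32) {χ : SL → ℂ} (hχ : IsIrrCharacter SL χ) {g : SL}
    (hg : orderOf g = 11) {ω : ℂ} (hω : ω ^ 11 = 1) : (∑ i ∈ Finset.range 11, χ (g ^ i) * ω ^ i).re ≤ 33 := by
  classical
  -- the sum of the powers
  obtain ⟨s, hs, hs'⟩ : ∃ s : ℝ, ∑ i ∈ Finset.range 11, ω ^ i = (s : ℂ) ∧ (s = 0 ∨ s = 11) := by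
    by_cases h1 : ω = 1
    · refine ⟨11, ?_, Or.inr rfl⟩
      rw [h1]
      simp
    · refine ⟨0, ?_, Or.inl rfl⟩
      have h2 := geom_sum_mul ω 11
      rw [hω, sub_self] at h2
      rw [(mul_eq_zero.1 h2).resolve_right (sub_ne_zero.2 h1)]
      simp
  have h2 := ringChar_eq_two hF
  have hEll : Ell (g : M₂) := by
    by_contra h
    have h1 := orderOf_dvd_of_not_ell h
    rw [hg, hF] at h1
    norm_num at h1
  have hgm : ∀ i, g ^ i ∈ Subgroup.centralizer ({g} : Set SL) := fun i =>
    Subgroup.mem_centralizer_singleton_iff.2 (Commute.pow_self g i)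
  have hNS : ∀ i ∈ Finset.range 11, i ≠ 0 → NS ((g ^ i : SL) : M₂) := by
    intro i hi h0
    by_contra h
    have h1 : g ^ i = 1 := by
      rcases scalar_cases h with h | h
      · rw [h, upp_one_zero]
      · have h3 : (-1 : Fˣ) = 1 := unit_eq_one h2 (by simp)
        rw [h, h3, upp_one_zero]
    exact pow_ne_one_of_lt_orderOf h0 (by rw [hg]; exact Finset.mem_range.1 hi) h1
  have hEll' : ∀ i ∈ Finset.range 11, i ≠ 0 → Ell ((g ^ i : SL) : M₂) := fun i hi h0 =>
    ell_of_mem_cent hEll (hgm i) (hNS i hi h0)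
  have hR1 : ∀ α : MulChar F ℂ, R α (1 : SL) = 33 := by
    intro α
    rw [← upp_one_zero, R_upp_zero α inv_one, Units.val_one, MulChar.map_one, hF]
    norm_num
  -- sums of functions constant on the elements different from one
  have hconst : ∀ (f : SL → ℂ) (c : ℂ), (∀ i ∈ Finset.range 11, i ≠ 0 → f (g ^ i) = c) →
      ∑ i ∈ Finset.range 11, f (g ^ i) * ω ^ i = f 1 + (s - 1) * c := by
    intro f c hf
    have hs2 : ∑ i ∈ (Finset.range 11).erase 0, ω ^ i = s - 1 := by
      rw [← hs, ← Finset.add_sum_erase _ _ (Finset.mem_range.2 (by norm_num : 0 < 11)), pow_zero]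
      ring
    rw [← Finset.add_sum_erase _ _ (Finset.mem_range.2 (by norm_num : 0 < 11)), pow_zero, pow_zero, mul_one,
      Finset.sum_congr rfl (g := fun i => c * ω ^ i) (fun i hi => by
        rw [hf i (Finset.mem_of_mem_erase hi) (Finset.ne_of_mem_erase hi)]), ← Finset.mul_sum, hs2, mul_comm c]
  rcases irr_cases hχ with ⟨α, -, rfl⟩ | rfl | rfl | ⟨α, hα, hα1, -⟩ | h0
  · rw [hconst _ 0 (fun i hi h => R_ell α (hEll' i hi h)), hR1]
    norm_num
  · have h3 := hconst (1 : SL → ℂ) 1 (fun i hi h => rfl)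
    rw [h3, Pi.one_apply]
    rcases hs' with rfl | rfl <;> norm_num
  · have h3 := hconst (fun x => R (1 : MulChar F ℂ) x - 1) (-1) (fun i hi h => by
      rw [R_ell _ (hEll' i hi h)]
      norm_num)
    rw [h3, hR1]
    rcases hs' with rfl | rfl <;> norm_num
  · exfalso
    apply hα1
    have h3 : α ^ 2 = 1 := by
      rw [pow_two]
      nth_rewrite 1 [← hα]
      exact inv_mul_cancel α
    have h4 : α ^ 31 = 1 := by
      have := MulChar.pow_card_eq_one α
      rwa [Fintype.card_units, hF] at this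
    have h5 : α ^ 31 = α := by
      have : α ^ 31 = (α ^ 2) ^ 15 * α := by
        rw [← pow_mul, ← pow_succ]
      rw [this, h3, one_pow, one_mul]
    rw [← h5, h4]
  · -- cuspidal characters
    set C := Subgroup.centralizer ({g} : Set SL) with hCdef
    have hcyc : IsCyclic C := isCyclic_cent g hEll
    have hcomm : ∀ a b : C, a * b = b * a := fun a b =>
      (IsCyclic.isMulCommutative (α := C)).is_comm.comm a b
    have hcard : Nat.card C = 33 := by
      rw [hCdef, card_cent_ell g hEll, hF]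
    have := Fintype.ofFinite C
    have := Characters.Core.finite_irr (G := C)
    have := Fintype.ofFinite (IrrCharacter C)
    have hres : IsCharacter C (fun c : C => χ c) :=
      Characters.Core.isCharacter_comp C.subtype (Characters.Core.isIrr_isCharacter hχ)
    obtain ⟨m, hm⟩ := Characters.Core.exists_nat_comb hres
    have hone : ∀ ψ : IrrCharacter C, (ψ : C → ℂ) 1 = 1 := fun ψ => S0898.irr_one_of_comm hcomm ψ.2
    have hι : Fintype.card (IrrCharacter C) = 33 := by
      have h3 := Characters.Counting.sum_irr_one_mul (1 : C)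
      simp only [hone, mul_one, if_true, Finset.sum_const, Finset.card_univ, nsmul_eq_mul] at h3
      rw [hcard] at h3
      exact_mod_cast h3
    have hd : χ 1 = ((∑ ψ, m ψ : ℕ) : ℂ) := by
      have h3 := congrFun hm 1
      simp only [Finset.sum_apply, nsmul_eq_mul, Pi.mul_apply, Pi.natCast_apply, hone,
        mul_one] at h3
      push_cast
      exact h3
    have hnorm : classInner (fun c : C => χ c) (fun c : C => χ c) = ((∑ ψ, m ψ ^ 2 : ℕ) : ℂ) := by
      have h3 := Characters.Core.classInner_sum_smul_sum_smul (G := C) (fun ψ => (m ψ : ℂ))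
        (fun ψ => (m ψ : ℂ))
      have h4 : ∑ ψ : IrrCharacter C, (m ψ : ℂ) • (ψ : C → ℂ) = fun c : C => χ c := by
        rw [hm]
        exact Finset.sum_congr rfl fun ψ _ => Nat.cast_smul_eq_nsmul ℂ _ _
      rw [h4] at h3
      rw [h3]
      push_cast
      refine Finset.sum_congr rfl fun ψ _ => ?_
      rw [Complex.conj_natCast, pow_two]
    have hT := torus_norm h2 hEll hχ h0
    have hT' : ((∑ ψ, m ψ ^ 2 : ℕ) : ℂ) = (((∑ ψ, m ψ : ℕ) : ℂ) * ((∑ ψ, m ψ : ℕ) : ℂ)) * 29 / 961 + 2 := by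
      rw [← hnorm, Characters.Core.classInner_def, hcard]
      rw [hF, hd, Complex.conj_natCast] at hT
      have e1 : ((32 : ℕ) : ℂ) + 1 = ((33 : ℕ) : ℂ) := by norm_num
      have e2 : ((32 : ℕ) : ℂ) - 3 = 29 := by norm_num
      have e3 : (((32 : ℕ) : ℂ) - 1) ^ 2 = 961 := by norm_num
      rw [e1, e2, e3] at hT
      exact hT
    have hle := le_one_of_sums m hι (by
      have h3 : (961 : ℂ) * ((∑ ψ, m ψ ^ 2 : ℕ) : ℂ) = 29 * ((∑ ψ, m ψ : ℕ) : ℂ) ^ 2 + 1922 := by
        rw [hT']
        ring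
      exact_mod_cast h3)
    have hx : orderOf (⟨g, by simpa using hgm 1⟩ : C) = 11 := by rw [Subgroup.orderOf_mk, hg]
    set x : C := ⟨g, by simpa using hgm 1⟩ with hxdef
    have hωx : ω ^ orderOf x = 1 := by rw [hx]; exact hω
    have hsum : ∑ i ∈ Finset.range 11, χ (g ^ i) * ω ^ i =
        ((∑ ψ ∈ Finset.univ.filter (fun ψ : IrrCharacter C => (ψ : C → ℂ) x * ω = 1), m ψ * 11 : ℕ) : ℂ) := by
      have h3 : ∀ i, χ (g ^ i) = ∑ ψ : IrrCharacter C, (m ψ : ℂ) * (ψ : C → ℂ) (x ^ i) := by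
        intro i
        have h4 := congrFun hm (x ^ i)
        simp only [Finset.sum_apply, nsmul_eq_mul, Pi.mul_apply, Pi.natCast_apply] at h4
        exact h4
      have h3' : ∀ i, χ (g ^ i) * ω ^ i = ∑ ψ : IrrCharacter C, (m ψ : ℂ) * ((ψ : C → ℂ) (x ^ i) * ω ^ i) := by
        intro i
        rw [h3, Finset.sum_mul]
        exact Finset.sum_congr rfl fun ψ _ => by ring
      rw [Finset.sum_congr rfl fun i _ => h3' i, Finset.sum_comm]
      have h5 : ∀ ψ : IrrCharacter C, ∑ i ∈ Finset.range 11, (m ψ : ℂ) * ((ψ : C → ℂ) (x ^ i) * ω ^ i) =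
          if (ψ : C → ℂ) x * ω = 1 then (m ψ : ℂ) * 11 else 0 := by
        intro ψ
        rw [← Finset.mul_sum]
        have h6 := sum_linear_w hcomm ψ x hωx
        rw [hx] at h6
        rw [h6, mul_ite, mul_zero]
        norm_num
      rw [Finset.sum_congr rfl fun ψ _ => h5 ψ, ← Finset.sum_filter]
      push_cast
      rfl
    have hk := card_w hcomm x hωx
    rw [hx, hcard] at hk
    have h3 : (Finset.univ.filter (fun ψ : IrrCharacter C => (ψ : C → ℂ) x * ω = 1)).card = 3 := by omega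
    have h4 : ∑ ψ ∈ Finset.univ.filter (fun ψ : IrrCharacter C => (ψ : C → ℂ) x * ω = 1), m ψ * 11 ≤ 33 := by
      have := Finset.sum_le_card_nsmul
        (Finset.univ.filter (fun ψ : IrrCharacter C => (ψ : C → ℂ) x * ω = 1)) (fun ψ => m ψ * 11) 11
        (fun ψ _ => by have := hle ψ; omega)
      rw [h3] at this
      exact this
    rw [hsum, Complex.natCast_re]
    exact_mod_cast h4

theorem T1w {F : Type*} [Field F] [Fintype F] (hF : Fintype.card F = 32)
    {χ : Matrix.ProjectiveSpecialLinearGroup (Fin 2) F → ℂ}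
    (hχ : Cfsg.IsIrrCharacter (Matrix.ProjectiveSpecialLinearGroup (Fin 2) F) χ)
    {x : Matrix.ProjectiveSpecialLinearGroup (Fin 2) F} (hx : orderOf x = 11) {ω : ℂ} (hω : ω ^ 11 = 1) :
    (∑ i ∈ Finset.range 11, χ (x ^ i) * ω ^ i).re ≤ 33 := by
  classical
  have h2 := ringChar_eq_two hF
  let π : Matrix.SpecialLinearGroup (Fin 2) F →* Matrix.ProjectiveSpecialLinearGroup (Fin 2) F :=
    QuotientGroup.mk' _
  have hπ : Function.Surjective π := QuotientGroup.mk'_surjective _
  have hinj : Function.Injective π := by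
    rw [← MonoidHom.ker_eq_bot_iff]
    rw [QuotientGroup.ker_mk']
    rw [eq_bot_iff]
    intro z hz
    rw [Subgroup.mem_bot]
    rcases scalar_cases (not_NS_of_mem_center hz) with h | h
    · rw [h, upp_one_zero]
    · have h3 : (-1 : Fˣ) = 1 := unit_eq_one h2 (by simp)
      rw [h, h3, upp_one_zero]
  obtain ⟨g, rfl⟩ := hπ x
  have hg : orderOf g = 11 := by rw [← hx, orderOf_injective π hinj]
  have h3 := slw hF (Characters.Core.isIrr_comp π hπ hχ) hg hω
  simpa only [map_pow, Function.comp] using h3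

end Cfsg.Agent.H942.L32A
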