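import Mathlib
import Cfsg.Agent.H942.BcRoots
import Cfsg.Agent.H942.L32A
import Cfsg.Agent.SmallSimple.PSLTwoPart

/-!
# `PSL₂(32)` is not a subgroup of `E₈(3)`
-/

set_option autoImplicit false
set_option linter.unusedSectionVars false

namespace Cfsg.Agent.H942.L32

open Cfsg Cfsg.Lie Cfsg.Agent.H657 IsLocalRing Module
open Cfsg.Agent.H942.E8Alc Cfsg.Agent.H942.E8Val Cfsg.Agent.H942.Common Cfsg.Agent.H942.BcRoots

attribute [local instance] Above.isAlgClosed

variable {F : Type*} [Field F] [Fintype F]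

/-- the group -/
abbrev PSL (F : Type*) [Field F] := Matrix.ProjectiveSpecialLinearGroup (Fin 2) F

/-- upper unitriangular matrices -/
def up (t : F) : Matrix.SpecialLinearGroup (Fin 2) F := ⟨!![1, t; 0, 1], by simp [Matrix.det_fin_two]⟩

/-- the homomorphism from the additive group -/
def psi : Multiplicative F →* PSL F where
  toFun t := QuotientGroup.mk (up (Multiplicative.toAdd t))
  map_one' := by
    have : up (0 : F) = 1 := by
      apply Subtype.ext
      show !![1, (0 : F); 0, 1] = 1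
      rw [Matrix.one_fin_two]
    show (QuotientGroup.mk (up (0 : F)) : PSL F) = 1
    rw [this]
    rfl
  map_mul' s t := by
    have : up (Multiplicative.toAdd s + Multiplicative.toAdd t) = up (Multiplicative.toAdd s) * up (Multiplicative.toAdd t) := by
      apply Subtype.ext
      show !![1, Multiplicative.toAdd s + Multiplicative.toAdd t; 0, 1] =
        !![1, Multiplicative.toAdd s; 0, 1] * !![1, Multiplicative.toAdd t; 0, 1]
      simp [add_comm]
    show (QuotientGroup.mk (up (Multiplicative.toAdd s + Multiplicative.toAdd t)) : PSL F) = _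
    rw [this]
    rfl

theorem psi_ne {t : Multiplicative F} (ht : t ≠ 1) : psi t ≠ 1 := by
  intro h
  have h1 : up (Multiplicative.toAdd t) ∈ Subgroup.center (Matrix.SpecialLinearGroup (Fin 2) F) :=
    (QuotientGroup.eq_one_iff _).1 h
  have h2 := Subgroup.mem_center_iff.1 h1 (⟨!![1, 0; 1, 1], by simp [Matrix.det_fin_two]⟩)
  have h3 := congrFun (congrFun (congrArg Subtype.val h2) 0) 0
  change (!![1, (0 : F); 1, 1] * !![1, Multiplicative.toAdd t; 0, 1]) 0 0 =
    (!![1, Multiplicative.toAdd t; 0, 1] * !![1, (0 : F); 1, 1]) 0 0 at h3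
  simp at h3
  exact ht h3

/-- the involutions are conjugate -/
theorem psi_conj (h2 : (2 : F) = 0) {t : Multiplicative F} (ht : t ≠ 1) :
    ∃ g : PSL F, psi t = g * psi (Multiplicative.ofAdd 1) * g⁻¹ := by
  classical
  have h0 : Multiplicative.toAdd t ≠ 0 := ht
  have hch : CharP F 2 := CharTwo.of_one_ne_zero_of_two_eq_zero one_ne_zero h2
  have hbij : Function.Bijective (fun x : F => x ^ 2) := by
    have hinj : Function.Injective (fun x : F => x ^ 2) := by
      intro a b hab
      have h3 : (a - b) ^ 2 = 0 := by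
        have h4 : a ^ 2 = b ^ 2 := hab
        linear_combination h4 + (b ^ 2 - a * b) * h2
      exact sub_eq_zero.1 (pow_eq_zero_iff (two_ne_zero) |>.1 h3)
    exact Finite.injective_iff_bijective.1 hinj
  obtain ⟨a, ha⟩ := hbij.2 (Multiplicative.toAdd t)
  have ha' : a ^ 2 = Multiplicative.toAdd t := ha
  have ha0 : a ≠ 0 := by
    rintro rfl
    apply h0
    rw [← ha']
    ring
  let g : Matrix.SpecialLinearGroup (Fin 2) F := ⟨!![a, 0; 0, a⁻¹], by simp [Matrix.det_fin_two, ha0]⟩
  have hg : up (Multiplicative.toAdd t) * g = g * up 1 := by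
    apply Subtype.ext
    show !![1, Multiplicative.toAdd t; 0, 1] * !![a, 0; 0, a⁻¹] = !![a, 0; 0, a⁻¹] * !![1, (1 : F); 0, 1]
    rw [← ha']
    simp
    field_simp
  refine ⟨QuotientGroup.mk g, ?_⟩
  rw [eq_mul_inv_iff_mul_eq]
  show (QuotientGroup.mk (up (Multiplicative.toAdd t) * g) : PSL F) = QuotientGroup.mk (g * up 1)
  rw [hg]

theorem sum_of_const {P : Type*} [Group P] [Fintype P] (f : P → ℂ) (c d : ℂ) (h1 : f 1 = d) (h : ∀ g, g ≠ 1 → f g = c) :
    ∑ g, f g = d + ((Fintype.card P : ℂ) - 1) * c := by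
  classical
  rw [← Finset.add_sum_erase _ _ (Finset.mem_univ (1 : P)), h1, Finset.sum_congr rfl (g := fun _ => c) (fun g hg =>
    h g (Finset.ne_of_mem_erase hg)), Finset.sum_const, Finset.card_erase_of_mem (Finset.mem_univ _), Finset.card_univ,
    nsmul_eq_mul, Nat.cast_sub Fintype.card_pos, Nat.cast_one]

theorem two_zero (hF : Fintype.card F = 32) : (2 : F) = 0 := by
  have h := Nat.cast_card_eq_zero F
  rw [hF] at h
  have h5 : (2 : F) ^ 5 = 0 := by
    rw [← h]
    push_cast
    norm_num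
  exact pow_eq_zero_iff (by norm_num) |>.1 h5

section

variable {V : ValuationSubring ℂ} [CharP (ResidueField V) 3]

/-- fixed points of the Sylow 2-subgroup and of a subgroup of index 2 -/
theorem fix_dims {M : Ideal AlgInt} (hM : IsPModular 3 M) (hV : Above M V) (hF : Fintype.card F = 32)
    {W : Type*} [AddCommGroup W] [Module (ResidueField V) W] [FiniteDimensional (ResidueField V) W]
    (τ : Representation (ResidueField V) (PSL F) W) :
    ∃ f f' : ℕ, f ≤ f' ∧ (finrank (ResidueField V) W : ℂ) + 31 * bc 3 τ (psi (Multiplicative.ofAdd 1)) = 32 * (f : ℂ) ∧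
      (finrank (ResidueField V) W : ℂ) + 15 * bc 3 τ (psi (Multiplicative.ofAdd 1)) = 16 * (f' : ℂ) ∧
      (f = f' → f = finrank (ResidueField V) W ∧ τ (psi (Multiplicative.ofAdd 1)) = 1) := by
  classical
  have h2 := two_zero hF
  have hβ : ∀ t : Multiplicative F, t ≠ 1 → bc 3 τ (psi t) = bc 3 τ (psi (Multiplicative.ofAdd 1)) := by
    intro t ht
    obtain ⟨g, hg⟩ := psi_conj h2 ht
    rw [hg, bc_conj]
  have hcard : Nat.card (Multiplicative F) = 2 ^ 5 := by
    rw [Nat.card_eq_fintype_card, Fintype.card_multiplicative, hF]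
    norm_num
  have : Fact (Nat.Prime 2) := ⟨Nat.prime_two⟩
  obtain ⟨K, hK⟩ := Sylow.exists_subgroup_card_pow_prime (G := Multiplicative F) 2 (n := 4) (by
    rw [hcard]
    norm_num)
  have : Fintype K := Fintype.ofFinite K
  have hK' : Fintype.card K = 16 := by
    rw [← Nat.card_eq_fintype_card, hK]
    norm_num
  have c1 := Cfsg.Agent.H597.BrInv.C hM hV (P := Multiplicative F) (by
    rw [Fintype.card_multiplicative, hF]; norm_num) (τ.comp psi)
  have c2 := Cfsg.Agent.H597.BrInv.C hM hV (P := K) (by rw [hK']; norm_num) (τ.comp (psi.comp K.subtype))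
  have s1 := sum_of_const (P := Multiplicative F) (fun g => bc 3 (τ.comp psi) g)
    (bc 3 τ (psi (Multiplicative.ofAdd 1))) (finrank (ResidueField V) W) (bc_one' _) (fun g hg => hβ g hg)
  have s2 := sum_of_const (P := K) (fun g => bc 3 (τ.comp (psi.comp K.subtype)) g)
    (bc 3 τ (psi (Multiplicative.ofAdd 1))) (finrank (ResidueField V) W) (bc_one' _) (fun g hg => hβ g (by
      intro h
      exact hg (Subtype.ext h)))
  rw [s1, Fintype.card_multiplicative, hF] at c1
  rw [s2, hK'] at c2
  have hle : Representation.invariants (τ.comp psi) ≤ Representation.invariants (τ.comp (psi.comp K.subtype)) := by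
    intro w hw g
    exact hw (g : Multiplicative F)
  refine ⟨finrank (ResidueField V) (Representation.invariants (τ.comp psi)),
    finrank (ResidueField V) (Representation.invariants (τ.comp (psi.comp K.subtype))), Submodule.finrank_mono hle, ?_, ?_, ?_⟩
  · push_cast at c1
    linear_combination c1
  · push_cast at c2
    linear_combination c2
  · intro heq
    rw [← heq] at c2
    generalize bc 3 τ (psi (Multiplicative.ofAdd 1)) = β at c1 c2
    have h5 : ((finrank (ResidueField V) (Representation.invariants (τ.comp psi)) : ℕ) : ℂ) =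
        (finrank (ResidueField V) W : ℂ) := by
      push_cast at c1 c2
      linear_combination (15 / 16 : ℂ) * c1 - (31 / 16 : ℂ) * c2
    have h6 : finrank (ResidueField V) (Representation.invariants (τ.comp psi)) = finrank (ResidueField V) W := by
      exact_mod_cast h5
    refine ⟨h6, ?_⟩
    have h7 := Submodule.eq_top_of_finrank_eq h6
    refine LinearMap.ext fun w => ?_
    have h8 : w ∈ Representation.invariants (τ.comp psi) := h7 ▸ Submodule.mem_top
    exact h8 (Multiplicative.ofAdd 1)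

/-- eigenvalue multiplicities on irreducible representations -/
theorem mult_le {M : Ideal AlgInt} (hM : IsPModular 3 M) (hV : Above M V) (hF : Fintype.card F = 32) {n : ℕ}
    (τ : Representation (ResidueField V) (PSL F) (Fin n → ResidueField V)) (hτ : τ.IsIrreducible) {x : PSL F}
    (hx : orderOf x = 11) {ω : ℂ} (hω : ω ^ 11 = 1) {k : ℕ}
    (hk : ∑ i ∈ Finset.range 11, bc 3 τ (x ^ i) * ω ^ i = 11 * (k : ℂ)) : k ≤ 3 := by
  classical
  have hfin : Finite (PSL F) := by
    unfold PSL Matrix.ProjectiveSpecialLinearGroup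
    infer_instance
  have hreg : ∀ i : ℕ, IsPRegular 3 (x ^ i) := by
    intro i h
    have h1 : orderOf (x ^ i) ∣ 11 := by
      rw [← hx]
      exact orderOf_pow_dvd i
    have h2 := h.trans h1
    norm_num at h2
  let i0 : IBr V (PSL F) := ⟨fun g => LinearMap.trace (ResidueField V) _ (τ g), n, τ, hτ, fun g => rfl⟩
  obtain ⟨χ, m, idx, l, hχ, hl, hdec⟩ := exists_constituent hM hV i0
  have hx11 : x ^ 11 = 1 := by rw [← hx]; exact pow_orderOf_eq_one x
  choose kk hkk using fun l => exists_mult (idx l).rep (N := 11) (by norm_num) hx11 (by norm_num) hω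
  have h1 : ∑ i ∈ Finset.range 11, χ (x ^ i) * ω ^ i = 11 * ((∑ l, kk l : ℕ) : ℂ) := by
    have h2 : ∀ i ∈ Finset.range 11, χ (x ^ i) * ω ^ i = ∑ l, bc 3 (idx l).rep (x ^ i) * ω ^ i := by
      intro i _
      rw [hdec _ (hreg i), Finset.sum_mul]
      exact Finset.sum_congr rfl fun l _ => by rw [phi_of _ (hreg i)]
    rw [Finset.sum_congr rfl h2, Finset.sum_comm, Finset.sum_congr rfl fun l _ => hkk l, ← Finset.mul_sum]
    push_cast
    rfl
  have h3 := L32A.T1w hF hχ hx hω
  rw [h1] at h3
  have h4 : (∑ l, kk l : ℕ) ≤ 3 := by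
    have h5 : ((11 : ℂ) * ((∑ l, kk l : ℕ) : ℂ)).re = 11 * ((∑ l, kk l : ℕ) : ℝ) := by
      have : (11 : ℂ) * ((∑ l, kk l : ℕ) : ℂ) = ((11 * (∑ l, kk l) : ℕ) : ℂ) := by push_cast; rfl
      rw [this, Complex.natCast_re]
      push_cast
      rfl
    rw [h5] at h3
    have h6 : ((∑ l, kk l : ℕ) : ℝ) ≤ (3 : ℕ) := by
      push_cast at h3 ⊢
      linarith
    exact_mod_cast h6
  have h5 : k = kk l := by
    have h6 : (11 : ℂ) * (k : ℂ) = 11 * (kk l : ℂ) := by
      have := hkk l
      push_cast at this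
      rw [← this, ← hk]
      refine Finset.sum_congr rfl fun i _ => ?_
      rw [hl, ← phi_of i0 (hreg i), phi_eq_bc i0 τ hτ (fun g => rfl) (hreg i)]
    have h7 : (k : ℂ) = (kk l : ℂ) := mul_left_cancel₀ (by norm_num) h6
    exact_mod_cast h7
  rw [h5]
  exact (Finset.single_le_sum (f := kk) (fun _ _ => Nat.zero_le _) (Finset.mem_univ l)).trans h4

end

/-- `E₈(3)` has no subgroup `PSL₂(32)`. -/
theorem l32 (hF : Fintype.card F = 32) (H : Subgroup ↥(Cfsg.Lie.chevE8.group (ZMod 3))) :
    IsEmpty (↥H ≃* Matrix.ProjectiveSpecialLinearGroup (Fin 2) F) := by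
  classical
  refine ⟨fun e0 => ?_⟩
  let Φ : PSL F →* ↥(chevE8.group (ZMod 3)) := H.subtype.comp e0.symm.toMonoidHom
  have hΦ : Function.Injective Φ := by
    intro x y hxy
    exact e0.symm.injective (Subtype.ext hxy)
  obtain ⟨M, V, hM, hV, hch⟩ := exists_V
  have hfin : Finite (PSL F) := by
    unfold PSL Matrix.ProjectiveSpecialLinearGroup
    infer_instance
  have hcard : Nat.card (PSL F) = 32736 := by
    have := Cfsg.Agent.SmallSimple.PSLTwoPart.card_psl_two_even (F := F) (by rw [hF]; decide)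
    rw [hF] at this
    exact this
  have hsimple : IsSimpleGroup (PSL F) := by
    apply Matrix.ProjectiveSpecialLinearGroup.rank_two_simple
    rw [Nat.card_eq_fintype_card, hF]
    norm_num
  have : Fact (Nat.Prime 11) := ⟨by norm_num⟩
  obtain ⟨x, hx⟩ := exists_prime_orderOf_dvd_card' (G := PSL F) 11 (by rw [hcard]; norm_num)
  have hx11 : x ^ 11 = 1 := by rw [← hx]; exact pow_orderOf_eq_one x
  set u : PSL F := psi (Multiplicative.ofAdd 1) with hu
  have hu1 : u ≠ 1 := psi_ne (by
    intro h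
    have : (1 : F) = 0 := h
    exact one_ne_zero this)
  have hu2 : u ^ 2 = 1 := by
    rw [hu, ← map_pow]
    have : (Multiplicative.ofAdd (1 : F)) ^ 2 = 1 := by
      rw [← ofAdd_nsmul]
      have : (2 : ℕ) • (1 : F) = 0 := by
        rw [nsmul_eq_mul, mul_one]
        exact_mod_cast two_zero hF
      rw [this]
      rfl
    rw [this, map_one]
  -- the values on the adjoint module
  obtain ⟨t, t2, t4, Lt, et, -, -, ft, ft2, ft4⟩ := val8 V Φ (g := u) (by
    rw [show (8 : ℕ) = 2 * 4 from rfl, pow_mul, hu2, one_pow])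
  have h2 : t2 = 248 := ft2.1 (by rw [hu2, map_one])
  have h4 : t4 = 248 := ft4.1 (by
    have : u ^ 4 = 1 := by rw [show (4 : ℕ) = 2 * 2 from rfl, pow_mul, hu2, one_pow]
    rw [this, map_one])
  have ht : t ≠ 248 := fun h => hu1 (hΦ (by rw [ft.2 h, map_one]))
  have ht' : t = -8 ∨ t = 24 := by
    rw [h2, h4] at Lt
    simp [L8] at Lt
    omega
  obtain ⟨o, o2, o4, -, eo, -, -, fo, -, -⟩ := val8 V Φ (g := (1 : PSL F)) (one_pow _)
  have ho : o = 248 := fo.1 (map_one _)
  rw [ho] at eo
  have hxne : Φ x ≠ 1 := by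
    intro h
    have h1 : x = 1 := hΦ (by rw [h, map_one])
    rw [h1, orderOf_one] at hx
    norm_num at hx
  have hval : ∀ d : ℕ, ¬ 11 ∣ d → bc 3 (adj V Φ) (x ^ d) = 6 := fun d hd => val11 V Φ hx11 hxne hd
  have hsum : ∀ ω : ℂ, ∑ i ∈ Finset.range 11, bc 3 (adj V Φ) (x ^ i) * ω ^ i =
      242 + 6 * ∑ i ∈ Finset.range 11, ω ^ i := by
    intro ω
    have h1 : ∀ i ∈ (Finset.range 11).erase 0, bc 3 (adj V Φ) (x ^ i) * ω ^ i = 6 * ω ^ i := by
      intro i hi
      rw [Finset.mem_erase, Finset.mem_range] at hi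
      rw [hval i (fun h => by have := Nat.le_of_dvd (Nat.pos_of_ne_zero hi.1) h; omega)]
    rw [← Finset.add_sum_erase _ _ (Finset.mem_range.2 (by norm_num : 0 < 11)), Finset.sum_congr rfl h1,
      ← Finset.mul_sum, pow_zero, pow_zero, mul_one, eo,
      ← Finset.add_sum_erase (Finset.range 11) (fun i => ω ^ i) (Finset.mem_range.2 (by norm_num : 0 < 11)), pow_zero]
    push_cast
    ring
  -- a primitive root of unity
  obtain ⟨ζ, hζ⟩ : ∃ ζ : ℂ, IsPrimitiveRoot ζ 11 := ⟨_, Complex.isPrimitiveRoot_exp 11 (by norm_num)⟩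
  have hζ11 : ζ ^ 11 = 1 := hζ.pow_eq_one
  have hζsum : ∑ i ∈ Finset.range 11, ζ ^ i = 0 := hζ.geom_sum_eq_zero (by norm_num)
  -- the composition factors
  obtain ⟨m, n, τ, hτ, hbc⟩ := bc_factors (adj V Φ)
  choose f f' hle hf hf' hff using fun l => fix_dims hM hV hF (τ l)
  choose kA hkA using fun l => exists_mult (τ l) (N := 11) (by norm_num) hx11 (by norm_num) (one_pow 11)
  choose kB hkB using fun l => exists_mult (τ l) (N := 11) (by norm_num) hx11 (by norm_num) hζ11
  have hn0 : ∀ l, finrank (ResidueField V) (Fin (n l) → ResidueField V) ≠ 0 := fun l => finrank_ne_zero' (τ l) (hτ l)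
  have hA3 : ∀ l, kA l ≤ 3 := fun l => mult_le hM hV hF (τ l) (hτ l) hx (one_pow 11) (by
    have := hkA l
    push_cast at this
    exact this)
  have hB3 : ∀ l, kB l ≤ 3 := fun l => mult_le hM hV hF (τ l) (hτ l) hx hζ11 (by
    have := hkB l
    push_cast at this
    exact this)
  have htriv : ∀ l, f l = f' l → kB l = 0 ∧ 1 ≤ f l := by
    intro l hl
    obtain ⟨h5, h6⟩ := hff l hl
    refine ⟨?_, by have := hn0 l; omega⟩
    -- the kernel
    have hker : (τ l).ker = ⊤ := by
      rcases hsimple.eq_bot_or_eq_top_of_normal (τ l).ker inferInstance with h7 | h7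
      · exfalso
        apply hu1
        have h8 : u ∈ (τ l).ker := h6
        rw [h7, Subgroup.mem_bot] at h8
        exact h8
      · exact h7
    have hone : ∀ g, τ l g = (1 : ResidueField V) • (1 : Module.End _ _) := by
      intro g
      have h8 : g ∈ (τ l).ker := hker ▸ Subgroup.mem_top g
      rw [one_smul]
      exact h8
    have h7 := hkB l
    rw [Finset.sum_congr rfl fun i _ => by rw [bc_smul_one (τ l) (hone (x ^ i))], ← Finset.mul_sum, hζsum, mul_zero] at h7
    have h8 : (kB l : ℂ) = 0 := by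
      rcases mul_eq_zero.1 h7.symm with h9 | h9
      · norm_num at h9
      · exact h9
    exact_mod_cast h8
  -- the sums
  have S1 : ((∑ l, f l : ℕ) : ℂ) * 32 = ((248 + 31 * t : ℤ) : ℂ) := by
    have h5 : ∑ l, ((finrank (ResidueField V) (Fin (n l) → ResidueField V) : ℂ) + 31 * bc 3 (τ l) u) = ∑ l, 32 * (f l : ℂ) :=
      Finset.sum_congr rfl fun l _ => hf l
    rw [Finset.sum_add_distrib, ← Finset.mul_sum, ← Finset.mul_sum, ← hbc u, et,
      Finset.sum_congr rfl fun l _ => (bc_one' (τ l)).symm, ← hbc 1, eo] at h5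
    push_cast at h5 ⊢
    linear_combination -h5
  have S2 : ((∑ l, f' l : ℕ) : ℂ) * 16 = ((248 + 15 * t : ℤ) : ℂ) := by
    have h5 : ∑ l, ((finrank (ResidueField V) (Fin (n l) → ResidueField V) : ℂ) + 15 * bc 3 (τ l) u) = ∑ l, 16 * (f' l : ℂ) :=
      Finset.sum_congr rfl fun l _ => hf' l
    rw [Finset.sum_add_distrib, ← Finset.mul_sum, ← Finset.mul_sum, ← hbc u, et,
      Finset.sum_congr rfl fun l _ => (bc_one' (τ l)).symm, ← hbc 1, eo] at h5
    push_cast at h5 ⊢
    linear_combination -h5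
  have hk : ∀ (ω : ℂ) (k : Fin m → ℕ), (∀ l, ∑ i ∈ Finset.range 11, bc 3 (τ l) (x ^ i) * ω ^ i = (11 : ℕ) * (k l : ℂ)) →
      ((∑ l, k l : ℕ) : ℂ) * 11 = 242 + 6 * ∑ i ∈ Finset.range 11, ω ^ i := by
    intro ω k h
    rw [← hsum ω]
    have h5 : ∀ i ∈ Finset.range 11, bc 3 (adj V Φ) (x ^ i) * ω ^ i = ∑ l, bc 3 (τ l) (x ^ i) * ω ^ i := by
      intro i _
      rw [hbc, Finset.sum_mul]
    rw [Finset.sum_congr rfl h5, Finset.sum_comm, Finset.sum_congr rfl fun l _ => h l, ← Finset.mul_sum]
    push_cast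
    ring
  have SA : ∑ l, kA l = 28 := by
    have h5 := hk 1 kA hkA
    have h6 : ((∑ l, kA l : ℕ) : ℂ) = ((28 : ℕ) : ℂ) := by
      simp only [one_pow, Finset.sum_const, Finset.card_range, nsmul_eq_mul, mul_one] at h5
      push_cast at h5 ⊢
      linear_combination h5 / 11
    exact_mod_cast h6
  have SB : ∑ l, kB l = 22 := by
    have h5 := hk ζ kB hkB
    have h6 : ((∑ l, kB l : ℕ) : ℂ) = ((22 : ℕ) : ℂ) := by
      rw [hζsum] at h5
      push_cast at h5 ⊢
      linear_combination h5 / 11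
    exact_mod_cast h6
  have S1' : ((∑ l, f l : ℕ) : ℤ) * 32 = 248 + 31 * t := by exact_mod_cast S1
  have S2' : ((∑ l, f' l : ℕ) : ℤ) * 16 = 248 + 15 * t := by exact_mod_cast S2
  rcases ht' with rfl | rfl
  · have h5 : ∑ l, f l = 0 := by omega
    have h6 : ∑ l, kA l ≤ ∑ l, 3 * f' l := by
      refine Finset.sum_le_sum fun l _ => ?_
      have h7 : f l = 0 := Finset.sum_eq_zero_iff.1 h5 l (Finset.mem_univ l)
      have h8 : f' l ≠ 0 := by
        intro h9
        have := (htriv l (by omega)).2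
        omega
      have := hA3 l
      omega
    rw [SA, ← Finset.mul_sum] at h6
    omega
  · have h6 : ∑ l, (kB l + 3 * f l) ≤ ∑ l, 3 * f' l := by
      refine Finset.sum_le_sum fun l _ => ?_
      have h7 := hle l
      by_cases h8 : f l = f' l
      · have := (htriv l h8).1
        omega
      · have := hB3 l
        omega
    rw [Finset.sum_add_distrib, SB, ← Finset.mul_sum, ← Finset.mul_sum] at h6
    omega

end Cfsg.Agent.H942.L32
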