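import Mathlib
import Cfsg.Agent.H942.Sp6Sys
import Cfsg.Agent.H942.Forest

/-!
# A subgroup of order 128 of `PSp₆(3)`: data
-/

set_option autoImplicit false

namespace Cfsg.Agent.H942.Sp6Data

open Cfsg.Agent.H942.LMat Cfsg.Agent.H942.Pool Cfsg.Agent.H942.Forest Cfsg.Agent.H942.Sp6Sys

/-- conjugating elements -/
def B : List (List (List ℕ)) :=
  [[[1,0,0,1,0,0],[0,1,0,0,0,0],[0,0,1,0,0,0],[0,0,0,1,0,0],[0,0,0,0,1,0],[0,0,0,0,0,1]],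
   [[1,0,0,0,0,0],[0,1,0,0,1,0],[0,0,1,0,0,0],[0,0,0,1,0,0],[0,0,0,0,1,0],[0,0,0,0,0,1]],
   [[1,0,0,0,0,0],[0,1,0,0,0,0],[0,0,1,0,0,1],[0,0,0,1,0,0],[0,0,0,0,1,0],[0,0,0,0,0,1]],
   [[0,0,0,2,0,0],[0,1,0,0,0,0],[0,0,1,0,0,0],[1,0,0,0,0,0],[0,0,0,0,1,0],[0,0,0,0,0,1]],
   [[1,0,0,0,0,0],[0,0,0,0,2,0],[0,0,1,0,0,0],[0,0,0,1,0,0],[0,1,0,0,0,0],[0,0,0,0,0,1]],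
   [[1,0,0,0,0,0],[0,1,0,0,0,0],[0,0,0,0,0,2],[0,0,0,1,0,0],[0,0,0,0,1,0],[0,0,1,0,0,0]],
   [[0,1,0,0,0,0],[1,0,0,0,0,0],[0,0,1,0,0,0],[0,0,0,0,1,0],[0,0,0,1,0,0],[0,0,0,0,0,1]],
   [[0,0,1,0,0,0],[0,1,0,0,0,0],[1,0,0,0,0,0],[0,0,0,0,0,1],[0,0,0,0,1,0],[0,0,0,1,0,0]],
   [[1,1,0,0,0,0],[1,2,0,0,0,0],[0,0,1,0,0,0],[0,0,0,2,2,0],[0,0,0,2,1,0],[0,0,0,0,0,1]]]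

/-- their inverses -/
def B' : List (List (List ℕ)) :=
  [[[1,0,0,2,0,0],[0,1,0,0,0,0],[0,0,1,0,0,0],[0,0,0,1,0,0],[0,0,0,0,1,0],[0,0,0,0,0,1]],
   [[1,0,0,0,0,0],[0,1,0,0,2,0],[0,0,1,0,0,0],[0,0,0,1,0,0],[0,0,0,0,1,0],[0,0,0,0,0,1]],
   [[1,0,0,0,0,0],[0,1,0,0,0,0],[0,0,1,0,0,2],[0,0,0,1,0,0],[0,0,0,0,1,0],[0,0,0,0,0,1]],
   [[0,0,0,1,0,0],[0,1,0,0,0,0],[0,0,1,0,0,0],[2,0,0,0,0,0],[0,0,0,0,1,0],[0,0,0,0,0,1]],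
   [[1,0,0,0,0,0],[0,0,0,0,1,0],[0,0,1,0,0,0],[0,0,0,1,0,0],[0,2,0,0,0,0],[0,0,0,0,0,1]],
   [[1,0,0,0,0,0],[0,1,0,0,0,0],[0,0,0,0,0,1],[0,0,0,1,0,0],[0,0,0,0,1,0],[0,0,2,0,0,0]],
   [[0,1,0,0,0,0],[1,0,0,0,0,0],[0,0,1,0,0,0],[0,0,0,0,1,0],[0,0,0,1,0,0],[0,0,0,0,0,1]],
   [[0,0,1,0,0,0],[0,1,0,0,0,0],[1,0,0,0,0,0],[0,0,0,0,0,1],[0,0,0,0,1,0],[0,0,0,1,0,0]],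
   [[2,2,0,0,0,0],[2,1,0,0,0,0],[0,0,1,0,0,0],[0,0,0,1,1,0],[0,0,0,1,2,0],[0,0,0,0,0,1]]]

/-- generators -/
def G : List (List (List ℕ)) :=
  [[[1,0,0,2,0,0],[0,1,0,0,1,0],[0,0,0,0,0,2],[2,0,0,2,0,0],[0,1,0,0,2,0],[0,0,1,0,0,0]],
   [[0,1,0,0,1,0],[2,0,0,2,0,0],[0,0,2,0,0,0],[0,1,0,0,2,0],[2,0,0,1,0,0],[0,0,0,0,0,2]],
   [[0,0,0,0,1,0],[2,0,0,1,0,0],[0,0,2,0,0,2],[0,2,0,0,0,0],[1,0,0,1,0,0],[0,0,2,0,0,1]]]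

/-- elements -/
def E : List (List (List ℕ)) :=
  [[[1,0,0,0,0,0],[0,1,0,0,0,0],[0,0,1,0,0,0],[0,0,0,1,0,0],[0,0,0,0,1,0],[0,0,0,0,0,1]],
   [[1,0,0,2,0,0],[0,1,0,0,1,0],[0,0,0,0,0,2],[2,0,0,2,0,0],[0,1,0,0,2,0],[0,0,1,0,0,0]],
   [[0,1,0,0,1,0],[2,0,0,2,0,0],[0,0,2,0,0,0],[0,1,0,0,2,0],[2,0,0,1,0,0],[0,0,0,0,0,2]],
   [[0,0,0,0,1,0],[2,0,0,1,0,0],[0,0,2,0,0,2],[0,2,0,0,0,0],[1,0,0,1,0,0],[0,0,2,0,0,1]],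
   [[0,0,0,0,2,0],[1,0,0,0,0,0],[0,0,0,0,0,1],[0,1,0,0,0,0],[0,0,0,1,0,0],[0,0,2,0,0,0]],
   [[0,1,0,0,1,0],[0,0,0,2,0,0],[0,0,1,0,0,2],[0,1,0,0,2,0],[1,0,0,0,0,0],[0,0,2,0,0,2]],
   [[0,2,0,0,0,0],[0,0,0,2,0,0],[0,0,0,0,0,1],[0,0,0,0,2,0],[1,0,0,0,0,0],[0,0,2,0,0,0]],
   [[0,0,0,2,0,0],[0,1,0,0,2,0],[0,0,1,0,0,1],[1,0,0,0,0,0],[0,2,0,0,2,0],[0,0,1,0,0,2]],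
   [[0,1,0,0,2,0],[1,0,0,0,0,0],[0,0,2,0,0,1],[0,2,0,0,2,0],[0,0,0,1,0,0],[0,0,1,0,0,1]],
   [[2,0,0,1,0,0],[0,0,0,0,1,0],[0,0,1,0,0,1],[1,0,0,1,0,0],[0,2,0,0,0,0],[0,0,1,0,0,2]],
   [[1,0,0,1,0,0],[0,2,0,0,2,0],[0,0,2,0,0,0],[1,0,0,2,0,0],[0,2,0,0,1,0],[0,0,0,0,0,2]],
   [[0,2,0,0,1,0],[1,0,0,2,0,0],[0,0,1,0,0,0],[0,1,0,0,1,0],[2,0,0,2,0,0],[0,0,0,0,0,1]],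
   [[2,0,0,2,0,0],[0,0,0,0,1,0],[0,0,2,0,0,1],[2,0,0,1,0,0],[0,2,0,0,0,0],[0,0,1,0,0,1]],
   [[0,2,0,0,0,0],[1,0,0,1,0,0],[0,0,2,0,0,2],[0,0,0,0,2,0],[1,0,0,2,0,0],[0,0,2,0,0,1]],
   [[1,0,0,0,0,0],[0,2,0,0,1,0],[0,0,2,0,0,1],[0,0,0,1,0,0],[0,1,0,0,1,0],[0,0,1,0,0,1]],
   [[0,0,0,2,0,0],[0,1,0,0,0,0],[0,0,0,0,0,1],[1,0,0,0,0,0],[0,0,0,0,1,0],[0,0,2,0,0,0]],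
   [[1,0,0,1,0,0],[0,2,0,0,1,0],[0,0,0,0,0,2],[1,0,0,2,0,0],[0,1,0,0,1,0],[0,0,1,0,0,0]],
   [[1,0,0,2,0,0],[0,1,0,0,0,0],[0,0,2,0,0,1],[2,0,0,2,0,0],[0,0,0,0,1,0],[0,0,1,0,0,1]],
   [[0,2,0,0,1,0],[0,0,0,1,0,0],[0,0,2,0,0,2],[0,1,0,0,1,0],[2,0,0,0,0,0],[0,0,2,0,0,1]],
   [[0,1,0,0,0,0],[1,0,0,0,0,0],[0,0,1,0,0,0],[0,0,0,0,1,0],[0,0,0,1,0,0],[0,0,0,0,0,1]],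
   [[0,0,0,1,0,0],[0,1,0,0,1,0],[0,0,1,0,0,2],[2,0,0,0,0,0],[0,1,0,0,2,0],[0,0,2,0,0,2]],
   [[1,0,0,0,0,0],[0,0,0,0,1,0],[0,0,0,0,0,2],[0,0,0,1,0,0],[0,2,0,0,0,0],[0,0,1,0,0,0]],
   [[1,0,0,0,0,0],[0,1,0,0,2,0],[0,0,1,0,0,2],[0,0,0,1,0,0],[0,2,0,0,2,0],[0,0,2,0,0,2]],
   [[0,0,0,1,0,0],[0,1,0,0,0,0],[0,0,0,0,0,1],[2,0,0,0,0,0],[0,0,0,0,1,0],[0,0,2,0,0,0]],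
   [[0,2,0,0,0,0],[2,0,0,0,0,0],[0,0,1,0,0,0],[0,0,0,0,2,0],[0,0,0,2,0,0],[0,0,0,0,0,1]],
   [[0,2,0,0,1,0],[0,0,0,1,0,0],[0,0,1,0,0,1],[0,1,0,0,1,0],[2,0,0,0,0,0],[0,0,1,0,0,2]],
   [[0,0,0,2,0,0],[0,0,0,0,2,0],[0,0,2,0,0,0],[1,0,0,0,0,0],[0,1,0,0,0,0],[0,0,0,0,0,2]],
   [[2,0,0,0,0,0],[0,1,0,0,1,0],[0,0,2,0,0,2],[0,0,0,2,0,0],[0,1,0,0,2,0],[0,0,2,0,0,1]],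
   [[0,1,0,0,0,0],[2,0,0,1,0,0],[0,0,1,0,0,2],[0,0,0,0,1,0],[1,0,0,1,0,0],[0,0,2,0,0,2]],
   [[0,1,0,0,2,0],[1,0,0,1,0,0],[0,0,0,0,0,2],[0,2,0,0,2,0],[1,0,0,2,0,0],[0,0,1,0,0,0]],
   [[1,0,0,1,0,0],[0,2,0,0,0,0],[0,0,1,0,0,1],[1,0,0,2,0,0],[0,0,0,0,2,0],[0,0,1,0,0,2]],
   [[1,0,0,2,0,0],[0,2,0,0,1,0],[0,0,2,0,0,0],[2,0,0,2,0,0],[0,1,0,0,1,0],[0,0,0,0,0,2]],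
   [[1,0,0,2,0,0],[0,0,0,0,1,0],[0,0,1,0,0,1],[2,0,0,2,0,0],[0,2,0,0,0,0],[0,0,1,0,0,2]],
   [[1,0,0,1,0,0],[0,1,0,0,1,0],[0,0,1,0,0,0],[1,0,0,2,0,0],[0,1,0,0,2,0],[0,0,0,0,0,1]],
   [[0,2,0,0,1,0],[2,0,0,2,0,0],[0,0,0,0,0,2],[0,1,0,0,1,0],[2,0,0,1,0,0],[0,0,1,0,0,0]],
   [[0,1,0,0,0,0],[2,0,0,1,0,0],[0,0,2,0,0,1],[0,0,0,0,1,0],[1,0,0,1,0,0],[0,0,1,0,0,1]],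
   [[0,0,0,1,0,0],[0,0,0,0,1,0],[0,0,2,0,0,0],[2,0,0,0,0,0],[0,2,0,0,0,0],[0,0,0,0,0,2]],
   [[2,0,0,0,0,0],[0,1,0,0,1,0],[0,0,1,0,0,1],[0,0,0,2,0,0],[0,1,0,0,2,0],[0,0,1,0,0,2]],
   [[0,0,0,0,2,0],[2,0,0,2,0,0],[0,0,1,0,0,2],[0,1,0,0,0,0],[2,0,0,1,0,0],[0,0,2,0,0,2]],
   [[0,1,0,0,1,0],[2,0,0,1,0,0],[0,0,0,0,0,2],[0,1,0,0,2,0],[1,0,0,1,0,0],[0,0,1,0,0,0]],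
   [[0,0,0,0,1,0],[2,0,0,2,0,0],[0,0,2,0,0,1],[0,2,0,0,0,0],[2,0,0,1,0,0],[0,0,1,0,0,1]],
   [[0,1,0,0,1,0],[1,0,0,2,0,0],[0,0,0,0,0,2],[0,1,0,0,2,0],[2,0,0,2,0,0],[0,0,1,0,0,0]],
   [[2,0,0,2,0,0],[0,1,0,0,1,0],[0,0,2,0,0,0],[2,0,0,1,0,0],[0,1,0,0,2,0],[0,0,0,0,0,2]],
   [[2,0,0,1,0,0],[0,0,0,0,1,0],[0,0,2,0,0,2],[1,0,0,1,0,0],[0,2,0,0,0,0],[0,0,2,0,0,1]],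
   [[2,0,0,2,0,0],[0,2,0,0,0,0],[0,0,2,0,0,2],[2,0,0,1,0,0],[0,0,0,0,2,0],[0,0,2,0,0,1]],
   [[1,0,0,2,0,0],[0,1,0,0,2,0],[0,0,2,0,0,0],[2,0,0,2,0,0],[0,2,0,0,2,0],[0,0,0,0,0,2]],
   [[0,1,0,0,1,0],[2,0,0,1,0,0],[0,0,0,0,0,1],[0,1,0,0,2,0],[1,0,0,1,0,0],[0,0,2,0,0,0]],
   [[0,0,0,0,1,0],[1,0,0,1,0,0],[0,0,1,0,0,2],[0,2,0,0,0,0],[1,0,0,2,0,0],[0,0,2,0,0,2]],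
   [[0,1,0,0,1,0],[0,0,0,1,0,0],[0,0,2,0,0,1],[0,1,0,0,2,0],[2,0,0,0,0,0],[0,0,1,0,0,1]],
   [[0,0,0,0,1,0],[1,0,0,0,0,0],[0,0,0,0,0,1],[0,2,0,0,0,0],[0,0,0,1,0,0],[0,0,2,0,0,0]],
   [[0,1,0,0,2,0],[2,0,0,2,0,0],[0,0,0,0,0,2],[0,2,0,0,2,0],[2,0,0,1,0,0],[0,0,1,0,0,0]],
   [[0,2,0,0,0,0],[2,0,0,1,0,0],[0,0,2,0,0,1],[0,0,0,0,2,0],[1,0,0,1,0,0],[0,0,1,0,0,1]],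
   [[0,2,0,0,2,0],[2,0,0,1,0,0],[0,0,0,0,0,2],[0,2,0,0,1,0],[1,0,0,1,0,0],[0,0,1,0,0,0]],
   [[0,0,0,0,1,0],[2,0,0,2,0,0],[0,0,1,0,0,2],[0,2,0,0,0,0],[2,0,0,1,0,0],[0,0,2,0,0,2]],
   [[0,0,0,2,0,0],[0,1,0,0,2,0],[0,0,2,0,0,2],[1,0,0,0,0,0],[0,2,0,0,2,0],[0,0,2,0,0,1]],
   [[2,0,0,0,0,0],[0,2,0,0,0,0],[0,0,1,0,0,0],[0,0,0,2,0,0],[0,0,0,0,2,0],[0,0,0,0,0,1]],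
   [[1,0,0,1,0,0],[0,2,0,0,1,0],[0,0,0,0,0,1],[1,0,0,2,0,0],[0,1,0,0,1,0],[0,0,2,0,0,0]],
   [[2,0,0,1,0,0],[0,2,0,0,0,0],[0,0,2,0,0,1],[1,0,0,1,0,0],[0,0,0,0,2,0],[0,0,1,0,0,1]],
   [[0,2,0,0,2,0],[1,0,0,0,0,0],[0,0,1,0,0,1],[0,2,0,0,1,0],[0,0,0,1,0,0],[0,0,1,0,0,2]],
   [[0,0,0,0,2,0],[0,0,0,2,0,0],[0,0,2,0,0,0],[0,1,0,0,0,0],[1,0,0,0,0,0],[0,0,0,0,0,2]],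
   [[0,1,0,0,1,0],[1,0,0,0,0,0],[0,0,2,0,0,2],[0,1,0,0,2,0],[0,0,0,1,0,0],[0,0,2,0,0,1]],
   [[0,0,0,0,2,0],[0,0,0,1,0,0],[0,0,2,0,0,0],[0,1,0,0,0,0],[2,0,0,0,0,0],[0,0,0,0,0,2]],
   [[0,0,0,1,0,0],[0,2,0,0,0,0],[0,0,0,0,0,1],[2,0,0,0,0,0],[0,0,0,0,2,0],[0,0,2,0,0,0]],
   [[1,0,0,0,0,0],[0,2,0,0,1,0],[0,0,1,0,0,2],[0,0,0,1,0,0],[0,1,0,0,1,0],[0,0,2,0,0,2]],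
   [[0,0,0,1,0,0],[0,2,0,0,2,0],[0,0,1,0,0,2],[2,0,0,0,0,0],[0,2,0,0,1,0],[0,0,2,0,0,2]],
   [[2,0,0,0,0,0],[0,0,0,0,1,0],[0,0,0,0,0,1],[0,0,0,2,0,0],[0,2,0,0,0,0],[0,0,2,0,0,0]],
   [[0,0,0,0,2,0],[0,0,0,2,0,0],[0,0,1,0,0,0],[0,1,0,0,0,0],[1,0,0,0,0,0],[0,0,0,0,0,1]],
   [[0,1,0,0,1,0],[2,0,0,0,0,0],[0,0,1,0,0,1],[0,1,0,0,2,0],[0,0,0,2,0,0],[0,0,1,0,0,2]],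
   [[0,0,0,0,2,0],[2,0,0,1,0,0],[0,0,2,0,0,2],[0,1,0,0,0,0],[1,0,0,1,0,0],[0,0,2,0,0,1]],
   [[0,1,0,0,1,0],[1,0,0,1,0,0],[0,0,1,0,0,0],[0,1,0,0,2,0],[1,0,0,2,0,0],[0,0,0,0,0,1]],
   [[0,2,0,0,0,0],[1,0,0,0,0,0],[0,0,2,0,0,0],[0,0,0,0,2,0],[0,0,0,1,0,0],[0,0,0,0,0,2]],
   [[0,2,0,0,1,0],[0,0,0,2,0,0],[0,0,2,0,0,2],[0,1,0,0,1,0],[1,0,0,0,0,0],[0,0,2,0,0,1]],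
   [[0,0,0,0,1,0],[0,0,0,2,0,0],[0,0,2,0,0,0],[0,2,0,0,0,0],[1,0,0,0,0,0],[0,0,0,0,0,2]],
   [[0,1,0,0,1,0],[1,0,0,0,0,0],[0,0,1,0,0,1],[0,1,0,0,2,0],[0,0,0,1,0,0],[0,0,1,0,0,2]],
   [[2,0,0,2,0,0],[0,0,0,0,1,0],[0,0,1,0,0,2],[2,0,0,1,0,0],[0,2,0,0,0,0],[0,0,2,0,0,2]],
   [[2,0,0,1,0,0],[0,2,0,0,2,0],[0,0,0,0,0,2],[1,0,0,1,0,0],[0,2,0,0,1,0],[0,0,1,0,0,0]],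
   [[0,1,0,0,2,0],[2,0,0,1,0,0],[0,0,1,0,0,0],[0,2,0,0,2,0],[1,0,0,1,0,0],[0,0,0,0,0,1]],
   [[0,2,0,0,0,0],[1,0,0,1,0,0],[0,0,1,0,0,1],[0,0,0,0,2,0],[1,0,0,2,0,0],[0,0,1,0,0,2]],
   [[1,0,0,0,0,0],[0,0,0,0,1,0],[0,0,0,0,0,1],[0,0,0,1,0,0],[0,2,0,0,0,0],[0,0,2,0,0,0]],
   [[0,0,0,2,0,0],[0,2,0,0,2,0],[0,0,1,0,0,2],[1,0,0,0,0,0],[0,2,0,0,1,0],[0,0,2,0,0,2]],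
   [[2,0,0,1,0,0],[0,1,0,0,0,0],[0,0,1,0,0,2],[1,0,0,1,0,0],[0,0,0,0,1,0],[0,0,2,0,0,2]],
   [[1,0,0,1,0,0],[0,1,0,0,2,0],[0,0,0,0,0,2],[1,0,0,2,0,0],[0,2,0,0,2,0],[0,0,1,0,0,0]],
   [[1,0,0,0,0,0],[0,0,0,0,2,0],[0,0,0,0,0,1],[0,0,0,1,0,0],[0,1,0,0,0,0],[0,0,2,0,0,0]],
   [[0,0,0,2,0,0],[0,1,0,0,1,0],[0,0,1,0,0,2],[1,0,0,0,0,0],[0,1,0,0,2,0],[0,0,2,0,0,2]],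
   [[0,0,0,2,0,0],[0,2,0,0,0,0],[0,0,0,0,0,1],[1,0,0,0,0,0],[0,0,0,0,2,0],[0,0,2,0,0,0]],
   [[1,0,0,0,0,0],[0,1,0,0,2,0],[0,0,2,0,0,1],[0,0,0,1,0,0],[0,2,0,0,2,0],[0,0,1,0,0,1]],
   [[0,0,0,0,1,0],[2,0,0,1,0,0],[0,0,1,0,0,1],[0,2,0,0,0,0],[1,0,0,1,0,0],[0,0,1,0,0,2]],
   [[0,2,0,0,2,0],[1,0,0,1,0,0],[0,0,2,0,0,0],[0,2,0,0,1,0],[1,0,0,2,0,0],[0,0,0,0,0,2]],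
   [[0,1,0,0,0,0],[1,0,0,1,0,0],[0,0,1,0,0,1],[0,0,0,0,1,0],[1,0,0,2,0,0],[0,0,1,0,0,2]],
   [[0,1,0,0,2,0],[1,0,0,2,0,0],[0,0,2,0,0,0],[0,2,0,0,2,0],[2,0,0,2,0,0],[0,0,0,0,0,2]],
   [[0,2,0,0,0,0],[1,0,0,0,0,0],[0,0,1,0,0,0],[0,0,0,0,2,0],[0,0,0,1,0,0],[0,0,0,0,0,1]],
   [[0,1,0,0,2,0],[0,0,0,1,0,0],[0,0,2,0,0,2],[0,2,0,0,2,0],[2,0,0,0,0,0],[0,0,2,0,0,1]],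
   [[0,2,0,0,0,0],[2,0,0,2,0,0],[0,0,1,0,0,1],[0,0,0,0,2,0],[2,0,0,1,0,0],[0,0,1,0,0,2]],
   [[0,1,0,0,2,0],[1,0,0,2,0,0],[0,0,1,0,0,0],[0,2,0,0,2,0],[2,0,0,2,0,0],[0,0,0,0,0,1]],
   [[2,0,0,1,0,0],[0,1,0,0,1,0],[0,0,0,0,0,2],[1,0,0,1,0,0],[0,1,0,0,2,0],[0,0,1,0,0,0]],
   [[1,0,0,1,0,0],[0,0,0,0,1,0],[0,0,2,0,0,1],[1,0,0,2,0,0],[0,2,0,0,0,0],[0,0,1,0,0,1]],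
   [[1,0,0,1,0,0],[0,0,0,0,1,0],[0,0,1,0,0,2],[1,0,0,2,0,0],[0,2,0,0,0,0],[0,0,2,0,0,2]],
   [[1,0,0,2,0,0],[0,2,0,0,2,0],[0,0,0,0,0,2],[2,0,0,2,0,0],[0,2,0,0,1,0],[0,0,1,0,0,0]],
   [[2,0,0,1,0,0],[0,1,0,0,0,0],[0,0,2,0,0,1],[1,0,0,1,0,0],[0,0,0,0,1,0],[0,0,1,0,0,1]],
   [[1,0,0,1,0,0],[0,1,0,0,2,0],[0,0,0,0,0,1],[1,0,0,2,0,0],[0,2,0,0,2,0],[0,0,2,0,0,0]],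
   [[0,2,0,0,0,0],[0,0,0,2,0,0],[0,0,0,0,0,2],[0,0,0,0,2,0],[1,0,0,0,0,0],[0,0,1,0,0,0]],
   [[0,2,0,0,1,0],[2,0,0,0,0,0],[0,0,2,0,0,1],[0,1,0,0,1,0],[0,0,0,2,0,0],[0,0,1,0,0,1]],
   [[1,0,0,2,0,0],[0,2,0,0,1,0],[0,0,1,0,0,0],[2,0,0,2,0,0],[0,1,0,0,1,0],[0,0,0,0,0,1]],
   [[2,0,0,2,0,0],[0,1,0,0,0,0],[0,0,1,0,0,1],[2,0,0,1,0,0],[0,0,0,0,1,0],[0,0,1,0,0,2]],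
   [[1,0,0,0,0,0],[0,1,0,0,1,0],[0,0,1,0,0,1],[0,0,0,1,0,0],[0,1,0,0,2,0],[0,0,1,0,0,2]],
   [[0,0,0,2,0,0],[0,0,0,0,1,0],[0,0,2,0,0,0],[1,0,0,0,0,0],[0,2,0,0,0,0],[0,0,0,0,0,2]],
   [[1,0,0,2,0,0],[0,1,0,0,2,0],[0,0,1,0,0,0],[2,0,0,2,0,0],[0,2,0,0,2,0],[0,0,0,0,0,1]],
   [[2,0,0,2,0,0],[0,2,0,0,0,0],[0,0,1,0,0,1],[2,0,0,1,0,0],[0,0,0,0,2,0],[0,0,1,0,0,2]],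
   [[2,0,0,2,0,0],[0,2,0,0,2,0],[0,0,1,0,0,0],[2,0,0,1,0,0],[0,2,0,0,1,0],[0,0,0,0,0,1]],
   [[1,0,0,2,0,0],[0,0,0,0,1,0],[0,0,2,0,0,2],[2,0,0,2,0,0],[0,2,0,0,0,0],[0,0,2,0,0,1]],
   [[0,1,0,0,1,0],[0,0,0,2,0,0],[0,0,2,0,0,1],[0,1,0,0,2,0],[1,0,0,0,0,0],[0,0,1,0,0,1]],
   [[0,0,0,0,1,0],[2,0,0,0,0,0],[0,0,0,0,0,1],[0,2,0,0,0,0],[0,0,0,2,0,0],[0,0,2,0,0,0]],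
   [[0,1,0,0,2,0],[2,0,0,0,0,0],[0,0,2,0,0,1],[0,2,0,0,2,0],[0,0,0,2,0,0],[0,0,1,0,0,1]],
   [[0,2,0,0,0,0],[0,0,0,1,0,0],[0,0,0,0,0,1],[0,0,0,0,2,0],[2,0,0,0,0,0],[0,0,2,0,0,0]],
   [[0,2,0,0,1,0],[1,0,0,1,0,0],[0,0,0,0,0,2],[0,1,0,0,1,0],[1,0,0,2,0,0],[0,0,1,0,0,0]],
   [[0,2,0,0,0,0],[2,0,0,1,0,0],[0,0,1,0,0,2],[0,0,0,0,2,0],[1,0,0,1,0,0],[0,0,2,0,0,2]],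
   [[0,2,0,0,1,0],[1,0,0,0,0,0],[0,0,2,0,0,1],[0,1,0,0,1,0],[0,0,0,1,0,0],[0,0,1,0,0,1]],
   [[0,2,0,0,0,0],[0,0,0,1,0,0],[0,0,0,0,0,2],[0,0,0,0,2,0],[2,0,0,0,0,0],[0,0,1,0,0,0]],
   [[1,0,0,0,0,0],[0,2,0,0,0,0],[0,0,2,0,0,0],[0,0,0,1,0,0],[0,0,0,0,2,0],[0,0,0,0,0,2]],
   [[0,0,0,2,0,0],[0,2,0,0,1,0],[0,0,2,0,0,2],[1,0,0,0,0,0],[0,1,0,0,1,0],[0,0,2,0,0,1]],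
   [[0,0,0,2,0,0],[0,2,0,0,1,0],[0,0,1,0,0,1],[1,0,0,0,0,0],[0,1,0,0,1,0],[0,0,1,0,0,2]],
   [[2,0,0,0,0,0],[0,1,0,0,0,0],[0,0,2,0,0,0],[0,0,0,2,0,0],[0,0,0,0,1,0],[0,0,0,0,0,2]],
   [[1,0,0,0,0,0],[0,1,0,0,1,0],[0,0,2,0,0,2],[0,0,0,1,0,0],[0,1,0,0,2,0],[0,0,2,0,0,1]],
   [[0,0,0,2,0,0],[0,0,0,0,1,0],[0,0,1,0,0,0],[1,0,0,0,0,0],[0,2,0,0,0,0],[0,0,0,0,0,1]],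
   [[0,1,0,0,1,0],[0,0,0,1,0,0],[0,0,1,0,0,2],[0,1,0,0,2,0],[2,0,0,0,0,0],[0,0,2,0,0,2]],
   [[0,0,0,0,1,0],[1,0,0,0,0,0],[0,0,0,0,0,2],[0,2,0,0,0,0],[0,0,0,1,0,0],[0,0,1,0,0,0]],
   [[0,0,0,0,2,0],[2,0,0,1,0,0],[0,0,1,0,0,1],[0,1,0,0,0,0],[1,0,0,1,0,0],[0,0,1,0,0,2]],
   [[0,1,0,0,1,0],[1,0,0,1,0,0],[0,0,2,0,0,0],[0,1,0,0,2,0],[1,0,0,2,0,0],[0,0,0,0,0,2]]]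

/-- the table -/
def T : List (List ℕ) :=
  [[1,2,3],[0,4,5],[6,0,7],[8,9,10],[11,1,12],[13,14,15],[2,16,17],[12,18,19],[3,20,21],[22,3,2],[23,24,25],[4,26,27],[7,28,29],[5,30,31],[32,5,4],[33,34,35],[36,6,8],[37,38,39],[40,7,0],[41,42,43],[44,8,6],[45,46,47],[9,48,49],[10,50,51],[52,10,9],[53,54,55],[56,11,13],[57,58,59],[60,12,1],[61,62,63],[64,13,11],[65,66,67],[14,68,69],[15,70,71],[72,15,14],[73,74,75],[16,76,77],[17,67,66],[71,17,16],[70,78,79],[18,80,81],[19,82,83],[84,19,18],[85,86,87],[20,88,89],[21,72,73],[90,21,20],[91,57,56],[92,22,23],[93,94,95],[59,23,22],[58,96,97],[24,65,64],[25,98,99],[74,25,24],[75,87,86],[26,100,101],[27,47,46],[51,27,26],[50,102,103],[28,104,105],[29,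106,107],[108,29,28],[109,110,111],[30,112,113],[31,52,53],[114,31,30],[115,37,36],[116,32,33],[117,118,119],[39,33,32],[38,120,121],[34,45,44],[35,122,123],[54,35,34],[55,111,110],[111,36,37],[110,103,102],[106,39,38],[107,101,100],[122,40,41],[123,113,112],[102,41,40],[103,116,117],[42,114,115],[43,124,125],[101,43,42],[100,55,54],[124,44,45],[125,105,104],[46,108,109],[47,119,118],[48,107,106],[49,123,122],[118,49,48],[119,115,114],[120,51,50],[121,125,124],[104,53,52],[105,117,116],[87,56,57],[86,79,78],[82,59,58],[83,77,76],[98,60,61],[99,89,88],[78,61,60],[79,92,93],[62,90,91],[63,126,127],[77,63,62],[76,75,74],[126,64,65],[127,81,80],[66,84,85],[67,95,94],[68,83,82],[69,99,98],[94,69,68],[95,91,90],[96,71,70],[97,127,126],[80,73,72],[81,93,92],[88,85,84],[89,97,96],[112,109,108],[113,121,120]]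

/-- parents -/
def tpar : List (ℕ × ℕ) :=
  [(0,0),(0,1),(0,2),(1,1),(1,2),(2,0),(2,2),(3,0),(3,1),(3,2),(4,0),(4,2),(5,0),(5,1),(5,2),(6,1),(6,2),(7,1),(7,2),(8,1),(8,2),(9,0),(10,0),(10,1),(10,2),(11,1),(11,2),(12,1),(12,2),(13,1),(13,2),(14,0),(15,0),(15,1),(15,2),(16,0),(17,0),(17,1),(17,2),(18,0),(19,0),(19,1),(19,2),(20,0),(21,0),(21,1),(21,2),(22,1),(22,2),(23,1),(23,2),(24,0),(25,0),(25,1),(25,2),(26,0),(27,0),(27,1),(27,2),(28,0),(29,0),(29,1),(29,2),(30,0),(31,0),(31,1),(31,2),(32,1),(32,2),(33,1),(33,2),(34,0),(35,0),(35,1),(35,2),(36,1),(36,2),(39,1),(39,2),(40,1),(40,2),(41,1),(41,2),(42,0),(43,0),(43,1),(43,2),(44,1),(44,2),(46,0),(47,0),(48,0),(49,0),(49,1),(49,2),(51,1),(51,2),(53,1),(53,2),(56,1),(56,2),(59,1),(59,2),(60,1),(60,2),(61,1),(61,2),(62,0),(63,0),(63,1),(63,2),(64,1),(64,2),(66,0),(67,0),(68,0),(69,0),(69,1),(69,2),(71,1),(71,2),(73,1),(73,2),(85,1),(85,2),(109,1),(109,2)]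

/-- the forest -/
def Fo : List (List (List ℕ)) :=
  [[[1,0,0,0,0,0],[0,1,0,0,0,0],[0,0,1,0,0,0],[0,0,0,1,0,0],[0,0,0,0,1,0],[0,0,0,0,0,1]],
   [[0,1,0,0,1,0],[2,0,0,2,0,0],[0,0,1,0,0,0],[0,1,0,0,2,0],[2,0,0,1,0,0],[0,0,0,0,0,1]],
   [[0,0,0,1,0,0],[0,1,0,0,1,0],[0,0,1,0,0,2],[2,0,0,0,0,0],[0,1,0,0,2,0],[0,0,2,0,0,2]],
   [[0,0,0,1,0,0],[0,0,0,0,1,0],[0,0,1,0,0,0],[2,0,0,0,0,0],[0,2,0,0,0,0],[0,0,0,0,0,1]],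
   [[0,0,0,0,1,0],[2,0,0,1,0,0],[0,0,1,0,0,1],[0,2,0,0,0,0],[1,0,0,1,0,0],[0,0,1,0,0,2]],
   [[0,0,0,0,2,0],[2,0,0,1,0,0],[0,0,1,0,0,0],[0,1,0,0,2,0],[2,0,0,0,0,0],[0,0,0,0,0,1]],
   [[0,0,0,0,2,0],[0,0,0,1,0,0],[0,0,1,0,0,0],[0,1,0,0,0,0],[2,0,0,0,0,0],[0,0,0,0,0,1]],
   [[0,0,0,0,1,0],[0,0,0,2,0,0],[0,0,1,0,0,0],[0,2,0,0,0,0],[1,0,0,0,0,0],[0,0,0,0,0,1]],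
   [[0,1,0,0,0,0],[1,0,0,0,0,0],[0,0,1,0,0,0],[0,0,0,0,1,0],[0,0,0,1,0,0],[0,0,0,0,0,1]],
   [[0,2,0,0,0,0],[2,0,0,0,0,0],[0,0,1,0,0,0],[0,0,0,0,2,0],[0,0,0,2,0,0],[0,0,0,0,0,1]],
   [[0,2,0,0,2,0],[1,0,0,1,0,0],[0,0,1,0,0,0],[0,2,0,0,1,0],[1,0,0,2,0,0],[0,0,0,0,0,1]],
   [[0,1,0,0,2,0],[2,0,0,1,0,0],[0,0,1,0,0,0],[0,2,0,0,2,0],[1,0,0,1,0,0],[0,0,0,0,0,1]],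
   [[0,2,0,0,1,0],[1,0,0,2,0,0],[0,0,1,0,0,0],[0,1,0,0,1,0],[2,0,0,2,0,0],[0,0,0,0,0,1]],
   [[2,0,0,0,0,0],[0,1,0,0,0,0],[0,0,1,0,0,0],[0,0,0,2,0,0],[0,0,0,0,1,0],[0,0,0,0,0,1]],
   [[1,0,0,0,0,0],[0,1,0,0,0,0],[0,0,2,0,0,0],[0,0,0,1,0,0],[0,0,0,0,1,0],[0,0,0,0,0,2]],
   [[1,0,0,0,0,0],[0,2,0,0,0,0],[0,0,1,0,0,0],[0,0,0,1,0,0],[0,0,0,0,2,0],[0,0,0,0,0,1]],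
   [[0,0,0,1,0,0],[0,0,0,0,2,0],[0,0,1,0,0,2],[2,0,0,0,0,0],[0,1,0,0,0,0],[0,0,2,0,0,2]],
   [[0,0,0,1,0,0],[0,1,0,0,1,0],[0,0,2,0,0,1],[2,0,0,0,0,0],[0,1,0,0,2,0],[0,0,1,0,0,1]],
   [[1,0,0,1,0,0],[0,0,0,0,1,0],[0,0,1,0,0,2],[1,0,0,2,0,0],[0,2,0,0,0,0],[0,0,2,0,0,2]],
   [[1,0,0,2,0,0],[0,0,0,0,1,0],[0,0,1,0,0,1],[2,0,0,2,0,0],[0,2,0,0,0,0],[0,0,1,0,0,2]],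
   [[0,0,0,1,0,0],[0,1,0,0,2,0],[0,0,1,0,0,1],[2,0,0,0,0,0],[0,2,0,0,2,0],[0,0,1,0,0,2]],
   [[0,0,0,1,0,0],[0,2,0,0,1,0],[0,0,1,0,0,2],[2,0,0,0,0,0],[0,1,0,0,1,0],[0,0,2,0,0,2]],
   [[0,0,0,1,0,0],[0,2,0,0,1,0],[0,0,2,0,0,2],[2,0,0,0,0,0],[0,1,0,0,1,0],[0,0,2,0,0,1]],
   [[0,0,0,1,0,0],[0,1,0,0,2,0],[0,0,2,0,0,2],[2,0,0,0,0,0],[0,2,0,0,2,0],[0,0,2,0,0,1]],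
   [[1,0,0,2,0,0],[0,1,0,0,1,0],[0,0,1,0,0,2],[2,0,0,2,0,0],[0,1,0,0,2,0],[0,0,2,0,0,2]],
   [[1,0,0,2,0,0],[0,0,0,0,2,0],[0,0,1,0,0,2],[2,0,0,2,0,0],[0,1,0,0,0,0],[0,0,2,0,0,2]],
   [[1,0,0,2,0,0],[0,0,0,0,2,0],[0,0,2,0,0,2],[2,0,0,2,0,0],[0,1,0,0,0,0],[0,0,2,0,0,1]],
   [[0,0,0,2,0,0],[0,1,0,0,2,0],[0,0,2,0,0,2],[1,0,0,0,0,0],[0,2,0,0,2,0],[0,0,2,0,0,1]],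
   [[0,0,0,1,0,0],[0,2,0,0,2,0],[0,0,1,0,0,2],[2,0,0,0,0,0],[0,2,0,0,1,0],[0,0,2,0,0,2]],
   [[0,0,0,1,0,0],[0,2,0,0,2,0],[0,0,2,0,0,1],[2,0,0,0,0,0],[0,2,0,0,1,0],[0,0,1,0,0,1]],
   [[1,0,0,1,0,0],[0,0,0,0,1,0],[0,0,2,0,0,1],[1,0,0,2,0,0],[0,2,0,0,0,0],[0,0,1,0,0,1]],
   [[2,0,0,2,0,0],[0,0,0,0,1,0],[0,0,2,0,0,1],[2,0,0,1,0,0],[0,2,0,0,0,0],[0,0,1,0,0,1]],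
   [[2,0,0,2,0,0],[0,0,0,0,1,0],[0,0,1,0,0,2],[2,0,0,1,0,0],[0,2,0,0,0,0],[0,0,2,0,0,2]],
   [[1,0,0,2,0,0],[0,1,0,0,1,0],[0,0,0,0,0,1],[2,0,0,2,0,0],[0,1,0,0,2,0],[0,0,2,0,0,0]],
   [[1,0,0,1,0,0],[0,1,0,0,2,0],[0,0,0,0,0,1],[1,0,0,2,0,0],[0,2,0,0,2,0],[0,0,2,0,0,0]],
   [[2,0,0,2,0,0],[0,2,0,0,1,0],[0,0,0,0,0,1],[2,0,0,1,0,0],[0,1,0,0,1,0],[0,0,2,0,0,0]],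
   [[2,0,0,1,0,0],[0,1,0,0,1,0],[0,0,0,0,0,1],[1,0,0,1,0,0],[0,1,0,0,2,0],[0,0,2,0,0,0]],
   [[1,0,0,1,0,0],[0,2,0,0,1,0],[0,0,0,0,0,1],[1,0,0,2,0,0],[0,1,0,0,1,0],[0,0,2,0,0,0]],
   [[1,0,0,2,0,0],[0,2,0,0,2,0],[0,0,0,0,0,1],[2,0,0,2,0,0],[0,2,0,0,1,0],[0,0,2,0,0,0]],
   [[2,0,0,2,0,0],[0,1,0,0,2,0],[0,0,0,0,0,1],[2,0,0,1,0,0],[0,2,0,0,2,0],[0,0,2,0,0,0]],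
   [[1,0,0,2,0,0],[0,0,0,0,1,0],[0,0,2,0,0,2],[2,0,0,2,0,0],[0,2,0,0,0,0],[0,0,2,0,0,1]],
   [[1,0,0,2,0,0],[0,0,0,0,2,0],[0,0,1,0,0,1],[2,0,0,2,0,0],[0,1,0,0,0,0],[0,0,1,0,0,2]],
   [[2,0,0,1,0,0],[0,2,0,0,2,0],[0,0,0,0,0,1],[1,0,0,1,0,0],[0,2,0,0,1,0],[0,0,2,0,0,0]],
   [[1,0,0,2,0,0],[0,0,0,0,1,0],[0,0,1,0,0,0],[2,0,0,2,0,0],[0,2,0,0,0,0],[0,0,0,0,0,1]],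
   [[2,0,0,2,0,0],[0,0,0,0,1,0],[0,0,1,0,0,0],[2,0,0,1,0,0],[0,2,0,0,0,0],[0,0,0,0,0,1]],
   [[1,0,0,1,0,0],[0,0,0,0,1,0],[0,0,1,0,0,0],[1,0,0,2,0,0],[0,2,0,0,0,0],[0,0,0,0,0,1]],
   [[0,0,0,2,0,0],[0,0,0,0,1,0],[0,0,1,0,0,0],[1,0,0,0,0,0],[0,2,0,0,0,0],[0,0,0,0,0,1]],
   [[0,0,0,0,1,0],[0,0,0,1,0,0],[0,0,1,0,0,0],[0,2,0,0,0,0],[2,0,0,0,0,0],[0,0,0,0,0,1]],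
   [[0,0,0,1,0,0],[0,1,0,0,2,0],[0,0,1,0,0,0],[2,0,0,0,0,0],[0,2,0,0,2,0],[0,0,0,0,0,1]],
   [[0,0,0,1,0,0],[0,2,0,0,2,0],[0,0,1,0,0,0],[2,0,0,0,0,0],[0,2,0,0,1,0],[0,0,0,0,0,1]],
   [[0,0,0,1,0,0],[0,1,0,0,1,0],[0,0,1,0,0,0],[2,0,0,0,0,0],[0,1,0,0,2,0],[0,0,0,0,0,1]],
   [[0,0,0,1,0,0],[0,0,0,0,2,0],[0,0,1,0,0,0],[2,0,0,0,0,0],[0,1,0,0,0,0],[0,0,0,0,0,1]],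
   [[0,0,0,0,2,0],[0,0,0,2,0,0],[0,0,1,0,0,0],[0,1,0,0,0,0],[1,0,0,0,0,0],[0,0,0,0,0,1]],
   [[0,0,0,2,0,0],[0,0,0,0,2,0],[0,0,1,0,0,0],[1,0,0,0,0,0],[0,1,0,0,0,0],[0,0,0,0,0,1]],
   [[1,0,0,0,0,0],[0,0,0,0,1,0],[0,0,0,0,0,1],[0,0,0,1,0,0],[0,2,0,0,0,0],[0,0,2,0,0,0]],
   [[0,0,0,1,0,0],[0,1,0,0,0,0],[0,0,0,0,0,1],[2,0,0,0,0,0],[0,0,0,0,1,0],[0,0,2,0,0,0]],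
   [[1,0,0,0,0,0],[0,0,0,0,1,0],[0,0,0,0,0,2],[0,0,0,1,0,0],[0,2,0,0,0,0],[0,0,1,0,0,0]],
   [[0,0,0,1,0,0],[0,1,0,0,0,0],[0,0,0,0,0,2],[2,0,0,0,0,0],[0,0,0,0,1,0],[0,0,1,0,0,0]],
   [[1,0,0,0,0,0],[0,0,0,0,2,0],[0,0,0,0,0,2],[0,0,0,1,0,0],[0,1,0,0,0,0],[0,0,1,0,0,0]],
   [[0,0,0,2,0,0],[0,1,0,0,0,0],[0,0,0,0,0,2],[1,0,0,0,0,0],[0,0,0,0,1,0],[0,0,1,0,0,0]],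
   [[1,0,0,0,0,0],[0,0,0,0,2,0],[0,0,0,0,0,1],[0,0,0,1,0,0],[0,1,0,0,0,0],[0,0,2,0,0,0]],
   [[0,0,0,2,0,0],[0,1,0,0,0,0],[0,0,0,0,0,1],[1,0,0,0,0,0],[0,0,0,0,1,0],[0,0,2,0,0,0]],
   [[0,1,0,0,0,0],[2,0,0,0,0,0],[0,0,1,0,0,0],[0,0,0,0,1,0],[0,0,0,2,0,0],[0,0,0,0,0,1]],
   [[0,2,0,0,0,0],[1,0,0,0,0,0],[0,0,1,0,0,0],[0,0,0,0,2,0],[0,0,0,1,0,0],[0,0,0,0,0,1]],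
   [[1,0,0,2,0,0],[0,1,0,0,2,0],[0,0,1,0,0,0],[2,0,0,2,0,0],[0,2,0,0,2,0],[0,0,0,0,0,1]],
   [[1,0,0,2,0,0],[0,2,0,0,1,0],[0,0,1,0,0,0],[2,0,0,2,0,0],[0,1,0,0,1,0],[0,0,0,0,0,1]],
   [[0,1,0,0,1,0],[1,0,0,1,0,0],[0,0,1,0,0,0],[0,1,0,0,2,0],[1,0,0,2,0,0],[0,0,0,0,0,1]],
   [[2,0,0,1,0,0],[0,1,0,0,2,0],[0,0,1,0,0,0],[1,0,0,1,0,0],[0,2,0,0,2,0],[0,0,0,0,0,1]],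
   [[0,2,0,0,2,0],[2,0,0,2,0,0],[0,0,1,0,0,0],[0,2,0,0,1,0],[2,0,0,1,0,0],[0,0,0,0,0,1]],
   [[0,1,0,0,2,0],[1,0,0,2,0,0],[0,0,1,0,0,0],[0,2,0,0,2,0],[2,0,0,2,0,0],[0,0,0,0,0,1]],
   [[0,2,0,0,1,0],[2,0,0,1,0,0],[0,0,1,0,0,0],[0,1,0,0,1,0],[1,0,0,1,0,0],[0,0,0,0,0,1]],
   [[1,0,0,1,0,0],[0,1,0,0,1,0],[0,0,1,0,0,0],[1,0,0,2,0,0],[0,1,0,0,2,0],[0,0,0,0,0,1]],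
   [[1,0,0,0,0,0],[0,1,0,0,1,0],[0,0,1,0,0,1],[0,0,0,1,0,0],[0,1,0,0,2,0],[0,0,1,0,0,2]],
   [[2,0,0,2,0,0],[0,1,0,0,1,0],[0,0,1,0,0,0],[2,0,0,1,0,0],[0,1,0,0,2,0],[0,0,0,0,0,1]],
   [[1,0,0,0,0,0],[0,1,0,0,1,0],[0,0,2,0,0,2],[0,0,0,1,0,0],[0,1,0,0,2,0],[0,0,2,0,0,1]],
   [[1,0,0,0,0,0],[0,1,0,0,2,0],[0,0,1,0,0,2],[0,0,0,1,0,0],[0,2,0,0,2,0],[0,0,2,0,0,2]],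
   [[1,0,0,0,0,0],[0,1,0,0,2,0],[0,0,2,0,0,1],[0,0,0,1,0,0],[0,2,0,0,2,0],[0,0,1,0,0,1]],
   [[1,0,0,0,0,0],[0,2,0,0,1,0],[0,0,1,0,0,2],[0,0,0,1,0,0],[0,1,0,0,1,0],[0,0,2,0,0,2]],
   [[2,0,0,1,0,0],[0,0,0,0,2,0],[0,0,1,0,0,0],[1,0,0,1,0,0],[0,1,0,0,0,0],[0,0,0,0,0,1]],
   [[2,0,0,1,0,0],[0,2,0,0,1,0],[0,0,1,0,0,0],[1,0,0,1,0,0],[0,1,0,0,1,0],[0,0,0,0,0,1]],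
   [[1,0,0,0,0,0],[0,2,0,0,1,0],[0,0,2,0,0,1],[0,0,0,1,0,0],[0,1,0,0,1,0],[0,0,1,0,0,1]],
   [[1,0,0,1,0,0],[0,2,0,0,2,0],[0,0,1,0,0,0],[1,0,0,2,0,0],[0,2,0,0,1,0],[0,0,0,0,0,1]],
   [[1,0,0,0,0,0],[0,2,0,0,2,0],[0,0,1,0,0,1],[0,0,0,1,0,0],[0,2,0,0,1,0],[0,0,1,0,0,2]],
   [[2,0,0,2,0,0],[0,1,0,0,2,0],[0,0,1,0,0,0],[2,0,0,1,0,0],[0,2,0,0,2,0],[0,0,0,0,0,1]],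
   [[2,0,0,2,0,0],[0,2,0,0,2,0],[0,0,1,0,0,0],[2,0,0,1,0,0],[0,2,0,0,1,0],[0,0,0,0,0,1]],
   [[1,0,0,0,0,0],[0,2,0,0,2,0],[0,0,2,0,0,2],[0,0,0,1,0,0],[0,2,0,0,1,0],[0,0,2,0,0,1]],
   [[1,0,0,1,0,0],[0,1,0,0,0,0],[0,0,1,0,0,1],[1,0,0,2,0,0],[0,0,0,0,1,0],[0,0,1,0,0,2]],
   [[1,0,0,1,0,0],[0,1,0,0,0,0],[0,0,2,0,0,2],[1,0,0,2,0,0],[0,0,0,0,1,0],[0,0,2,0,0,1]],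
   [[2,0,0,2,0,0],[0,1,0,0,0,0],[0,0,2,0,0,2],[2,0,0,1,0,0],[0,0,0,0,1,0],[0,0,2,0,0,1]],
   [[2,0,0,2,0,0],[0,1,0,0,0,0],[0,0,1,0,0,1],[2,0,0,1,0,0],[0,0,0,0,1,0],[0,0,1,0,0,2]],
   [[1,0,0,2,0,0],[0,1,0,0,0,0],[0,0,1,0,0,2],[2,0,0,2,0,0],[0,0,0,0,1,0],[0,0,2,0,0,2]],
   [[1,0,0,2,0,0],[0,1,0,0,0,0],[0,0,2,0,0,1],[2,0,0,2,0,0],[0,0,0,0,1,0],[0,0,1,0,0,1]],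
   [[2,0,0,1,0,0],[0,1,0,0,0,0],[0,0,2,0,0,1],[1,0,0,1,0,0],[0,0,0,0,1,0],[0,0,1,0,0,1]],
   [[2,0,0,1,0,0],[0,1,0,0,0,0],[0,0,1,0,0,2],[1,0,0,1,0,0],[0,0,0,0,1,0],[0,0,2,0,0,2]],
   [[0,0,0,0,1,0],[1,0,0,0,0,0],[0,0,1,0,0,1],[0,2,0,0,2,0],[1,0,0,1,0,0],[0,0,1,0,0,2]],
   [[0,0,0,0,1,0],[0,0,0,2,0,0],[0,0,1,0,0,1],[0,2,0,0,1,0],[1,0,0,1,0,0],[0,0,1,0,0,2]],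
   [[0,0,0,0,1,0],[0,0,0,2,0,0],[0,0,0,0,0,2],[0,2,0,0,1,0],[1,0,0,1,0,0],[0,0,1,0,0,0]],
   [[0,0,0,0,1,0],[0,0,0,2,0,0],[0,0,2,0,0,1],[0,2,0,0,1,0],[1,0,0,1,0,0],[0,0,1,0,0,1]],
   [[0,0,0,0,1,0],[1,0,0,0,0,0],[0,0,0,0,0,2],[0,2,0,0,2,0],[1,0,0,1,0,0],[0,0,1,0,0,0]],
   [[0,2,0,0,2,0],[0,0,0,2,0,0],[0,0,0,0,0,2],[0,0,0,0,2,0],[1,0,0,2,0,0],[0,0,1,0,0,0]],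
   [[0,2,0,0,0,0],[0,0,0,2,0,0],[0,0,0,0,0,2],[0,0,0,0,2,0],[1,0,0,0,0,0],[0,0,1,0,0,0]],
   [[0,0,0,0,2,0],[2,0,0,0,0,0],[0,0,0,0,0,2],[0,1,0,0,0,0],[0,0,0,2,0,0],[0,0,1,0,0,0]],
   [[0,0,0,0,1,0],[1,0,0,0,0,0],[0,0,0,0,0,2],[0,2,0,0,0,0],[0,0,0,1,0,0],[0,0,1,0,0,0]],
   [[0,1,0,0,1,0],[2,0,0,0,0,0],[0,0,1,0,0,1],[0,2,0,0,0,0],[1,0,0,2,0,0],[0,0,1,0,0,2]],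
   [[0,2,0,0,1,0],[2,0,0,2,0,0],[0,0,1,0,0,1],[0,2,0,0,0,0],[1,0,0,0,0,0],[0,0,1,0,0,2]],
   [[0,2,0,0,0,0],[1,0,0,2,0,0],[0,0,1,0,0,1],[0,2,0,0,2,0],[1,0,0,0,0,0],[0,0,1,0,0,2]],
   [[0,2,0,0,0,0],[1,0,0,2,0,0],[0,0,0,0,0,2],[0,2,0,0,2,0],[1,0,0,0,0,0],[0,0,1,0,0,0]],
   [[0,2,0,0,0,0],[1,0,0,2,0,0],[0,0,2,0,0,1],[0,2,0,0,2,0],[1,0,0,0,0,0],[0,0,1,0,0,1]],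
   [[0,0,0,0,1,0],[1,0,0,0,0,0],[0,0,2,0,0,1],[0,2,0,0,1,0],[2,0,0,1,0,0],[0,0,1,0,0,1]],
   [[0,2,0,0,2,0],[0,0,0,2,0,0],[0,0,1,0,0,1],[0,2,0,0,1,0],[1,0,0,0,0,0],[0,0,1,0,0,2]],
   [[0,2,0,0,2,0],[0,0,0,2,0,0],[0,0,0,0,0,2],[0,2,0,0,1,0],[1,0,0,0,0,0],[0,0,1,0,0,0]],
   [[0,2,0,0,2,0],[0,0,0,2,0,0],[0,0,2,0,0,1],[0,2,0,0,1,0],[1,0,0,0,0,0],[0,0,1,0,0,1]],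
   [[0,0,0,0,2,0],[2,0,0,2,0,0],[0,0,2,0,0,1],[0,1,0,0,0,0],[2,0,0,1,0,0],[0,0,1,0,0,1]],
   [[0,2,0,0,2,0],[0,0,0,2,0,0],[0,0,1,0,0,2],[0,2,0,0,1,0],[1,0,0,0,0,0],[0,0,2,0,0,2]],
   [[0,0,0,0,2,0],[2,0,0,2,0,0],[0,0,1,0,0,2],[0,1,0,0,0,0],[2,0,0,1,0,0],[0,0,2,0,0,2]],
   [[0,2,0,0,0,0],[1,0,0,1,0,0],[0,0,1,0,0,1],[0,0,0,0,2,0],[1,0,0,2,0,0],[0,0,1,0,0,2]],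
   [[0,0,0,0,1,0],[1,0,0,2,0,0],[0,0,1,0,0,1],[0,2,0,0,0,0],[2,0,0,2,0,0],[0,0,1,0,0,2]],
   [[0,0,0,0,1,0],[1,0,0,2,0,0],[0,0,2,0,0,2],[0,2,0,0,0,0],[2,0,0,2,0,0],[0,0,2,0,0,1]],
   [[0,1,0,0,1,0],[2,0,0,0,0,0],[0,0,0,0,0,2],[0,2,0,0,0,0],[1,0,0,2,0,0],[0,0,1,0,0,0]],
   [[0,1,0,0,2,0],[1,0,0,2,0,0],[0,0,0,0,0,2],[0,0,0,0,1,0],[1,0,0,0,0,0],[0,0,1,0,0,0]],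
   [[0,1,0,0,0,0],[0,0,0,2,0,0],[0,0,0,0,0,2],[0,0,0,0,1,0],[1,0,0,0,0,0],[0,0,1,0,0,0]],
   [[0,0,0,0,2,0],[1,0,0,0,0,0],[0,0,0,0,0,2],[0,1,0,0,0,0],[0,0,0,1,0,0],[0,0,1,0,0,0]],
   [[0,2,0,0,0,0],[0,0,0,1,0,0],[0,0,0,0,0,2],[0,2,0,0,2,0],[2,0,0,2,0,0],[0,0,1,0,0,0]],
   [[0,0,0,0,1,0],[2,0,0,2,0,0],[0,0,0,0,0,2],[0,2,0,0,1,0],[0,0,0,2,0,0],[0,0,1,0,0,0]],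
   [[0,0,0,0,1,0],[2,0,0,0,0,0],[0,0,0,0,0,2],[0,2,0,0,0,0],[0,0,0,2,0,0],[0,0,1,0,0,0]],
   [[0,0,0,0,1,0],[2,0,0,1,0,0],[0,0,2,0,0,2],[0,2,0,0,0,0],[1,0,0,1,0,0],[0,0,2,0,0,1]],
   [[0,0,0,0,1,0],[2,0,0,2,0,0],[0,0,2,0,0,1],[0,2,0,0,0,0],[2,0,0,1,0,0],[0,0,1,0,0,1]],
   [[0,0,0,0,1,0],[2,0,0,2,0,0],[0,0,1,0,0,2],[0,2,0,0,0,0],[2,0,0,1,0,0],[0,0,2,0,0,2]],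
   [[0,2,0,0,2,0],[0,0,0,2,0,0],[0,0,1,0,0,1],[0,0,0,0,2,0],[1,0,0,2,0,0],[0,0,1,0,0,2]],
   [[0,2,0,0,0,0],[0,0,0,2,0,0],[0,0,1,0,0,1],[0,0,0,0,2,0],[1,0,0,0,0,0],[0,0,1,0,0,2]],
   [[0,2,0,0,0,0],[0,0,0,2,0,0],[0,0,2,0,0,2],[0,0,0,0,2,0],[1,0,0,0,0,0],[0,0,2,0,0,1]],
   [[0,2,0,0,0,0],[0,0,0,2,0,0],[0,0,0,0,0,1],[0,0,0,0,2,0],[1,0,0,0,0,0],[0,0,2,0,0,0]],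
   [[0,1,0,0,2,0],[1,0,0,2,0,0],[0,0,1,0,0,1],[0,0,0,0,1,0],[1,0,0,0,0,0],[0,0,1,0,0,2]],
   [[0,1,0,0,0,0],[0,0,0,2,0,0],[0,0,1,0,0,1],[0,0,0,0,1,0],[1,0,0,0,0,0],[0,0,1,0,0,2]],
   [[0,1,0,0,0,0],[0,0,0,2,0,0],[0,0,2,0,0,2],[0,0,0,0,1,0],[1,0,0,0,0,0],[0,0,2,0,0,1]],
   [[0,1,0,0,0,0],[0,0,0,2,0,0],[0,0,0,0,0,1],[0,0,0,0,1,0],[1,0,0,0,0,0],[0,0,2,0,0,0]],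
   [[0,1,0,0,0,0],[1,0,0,1,0,0],[0,0,1,0,0,1],[0,0,0,0,1,0],[1,0,0,2,0,0],[0,0,1,0,0,2]],
   [[0,1,0,0,0,0],[1,0,0,1,0,0],[0,0,2,0,0,2],[0,0,0,0,1,0],[1,0,0,2,0,0],[0,0,2,0,0,1]],
   [[0,2,0,0,1,0],[2,0,0,0,0,0],[0,0,2,0,0,1],[0,0,0,0,2,0],[1,0,0,2,0,0],[0,0,1,0,0,1]],
   [[0,2,0,0,2,0],[2,0,0,2,0,0],[0,0,2,0,0,1],[0,0,0,0,2,0],[1,0,0,0,0,0],[0,0,1,0,0,1]],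
   [[0,2,0,0,0,0],[2,0,0,1,0,0],[0,0,2,0,0,1],[0,0,0,0,2,0],[1,0,0,1,0,0],[0,0,1,0,0,1]],
   [[0,2,0,0,0,0],[2,0,0,1,0,0],[0,0,1,0,0,2],[0,0,0,0,2,0],[1,0,0,1,0,0],[0,0,2,0,0,2]],
   [[0,2,0,0,1,0],[2,0,0,2,0,0],[0,0,0,0,0,2],[0,2,0,0,0,0],[1,0,0,0,0,0],[0,0,1,0,0,0]],
   [[0,2,0,0,1,0],[2,0,0,2,0,0],[0,0,2,0,0,1],[0,2,0,0,0,0],[1,0,0,0,0,0],[0,0,1,0,0,1]],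
   [[0,1,0,0,1,0],[1,0,0,0,0,0],[0,0,2,0,0,1],[0,0,0,0,1,0],[1,0,0,1,0,0],[0,0,1,0,0,1]],
   [[0,1,0,0,2,0],[0,0,0,2,0,0],[0,0,2,0,0,1],[0,0,0,0,1,0],[1,0,0,1,0,0],[0,0,1,0,0,1]],
   [[0,1,0,0,0,0],[2,0,0,1,0,0],[0,0,2,0,0,1],[0,0,0,0,1,0],[1,0,0,1,0,0],[0,0,1,0,0,1]],
   [[0,1,0,0,0,0],[2,0,0,1,0,0],[0,0,1,0,0,2],[0,0,0,0,1,0],[1,0,0,1,0,0],[0,0,2,0,0,2]],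
   [[0,2,0,0,0,0],[1,0,0,1,0,0],[0,0,2,0,0,2],[0,0,0,0,2,0],[1,0,0,2,0,0],[0,0,2,0,0,1]],
   [[0,2,0,0,2,0],[0,0,0,1,0,0],[0,0,2,0,0,1],[0,2,0,0,1,0],[2,0,0,0,0,0],[0,0,1,0,0,1]],
   [[0,2,0,0,1,0],[2,0,0,0,0,0],[0,0,2,0,0,1],[0,1,0,0,1,0],[0,0,0,2,0,0],[0,0,1,0,0,1]],
   [[0,1,0,0,1,0],[0,0,0,2,0,0],[0,0,2,0,0,1],[0,1,0,0,2,0],[1,0,0,0,0,0],[0,0,1,0,0,1]],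
   [[0,1,0,0,1,0],[1,0,0,0,0,0],[0,0,1,0,0,1],[0,1,0,0,2,0],[0,0,0,1,0,0],[0,0,1,0,0,2]],
   [[0,1,0,0,1,0],[1,0,0,0,0,0],[0,0,2,0,0,2],[0,1,0,0,2,0],[0,0,0,1,0,0],[0,0,2,0,0,1]],
   [[0,1,0,0,2,0],[1,0,0,1,0,0],[0,0,1,0,0,1],[0,2,0,0,2,0],[1,0,0,2,0,0],[0,0,1,0,0,2]],
   [[0,1,0,0,2,0],[1,0,0,1,0,0],[0,0,2,0,0,2],[0,2,0,0,2,0],[1,0,0,2,0,0],[0,0,2,0,0,1]],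
   [[0,1,0,0,2,0],[1,0,0,1,0,0],[0,0,0,0,0,1],[0,2,0,0,2,0],[1,0,0,2,0,0],[0,0,2,0,0,0]],
   [[0,1,0,0,1,0],[1,0,0,2,0,0],[0,0,0,0,0,1],[0,1,0,0,2,0],[2,0,0,2,0,0],[0,0,2,0,0,0]],
   [[0,1,0,0,2,0],[1,0,0,1,0,0],[0,0,0,0,0,2],[0,2,0,0,2,0],[1,0,0,2,0,0],[0,0,1,0,0,0]],
   [[0,1,0,0,1,0],[1,0,0,2,0,0],[0,0,0,0,0,2],[0,1,0,0,2,0],[2,0,0,2,0,0],[0,0,1,0,0,0]],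
   [[0,1,0,0,1,0],[2,0,0,0,0,0],[0,0,1,0,0,1],[0,1,0,0,2,0],[0,0,0,2,0,0],[0,0,1,0,0,2]],
   [[0,1,0,0,1,0],[2,0,0,0,0,0],[0,0,2,0,0,2],[0,1,0,0,2,0],[0,0,0,2,0,0],[0,0,2,0,0,1]],
   [[0,2,0,0,2,0],[1,0,0,2,0,0],[0,0,0,0,0,2],[0,2,0,0,1,0],[2,0,0,2,0,0],[0,0,1,0,0,0]],
   [[0,2,0,0,2,0],[1,0,0,2,0,0],[0,0,1,0,0,1],[0,2,0,0,1,0],[2,0,0,2,0,0],[0,0,1,0,0,2]],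
   [[0,2,0,0,2,0],[1,0,0,2,0,0],[0,0,2,0,0,2],[0,2,0,0,1,0],[2,0,0,2,0,0],[0,0,2,0,0,1]],
   [[0,2,0,0,2,0],[1,0,0,2,0,0],[0,0,0,0,0,1],[0,2,0,0,1,0],[2,0,0,2,0,0],[0,0,2,0,0,0]],
   [[0,1,0,0,2,0],[0,0,0,1,0,0],[0,0,1,0,0,1],[0,2,0,0,2,0],[2,0,0,0,0,0],[0,0,1,0,0,2]],
   [[0,1,0,0,2,0],[0,0,0,1,0,0],[0,0,2,0,0,2],[0,2,0,0,2,0],[2,0,0,0,0,0],[0,0,2,0,0,1]],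
   [[0,2,0,0,1,0],[0,0,0,1,0,0],[0,0,2,0,0,2],[0,1,0,0,1,0],[2,0,0,0,0,0],[0,0,2,0,0,1]],
   [[0,2,0,0,1,0],[0,0,0,1,0,0],[0,0,1,0,0,1],[0,1,0,0,1,0],[2,0,0,0,0,0],[0,0,1,0,0,2]],
   [[0,2,0,0,1,0],[2,0,0,0,0,0],[0,0,1,0,0,2],[0,1,0,0,1,0],[0,0,0,2,0,0],[0,0,2,0,0,2]],
   [[0,2,0,0,1,0],[1,0,0,0,0,0],[0,0,2,0,0,1],[0,1,0,0,1,0],[0,0,0,1,0,0],[0,0,1,0,0,1]],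
   [[0,2,0,0,1,0],[1,0,0,0,0,0],[0,0,1,0,0,2],[0,1,0,0,1,0],[0,0,0,1,0,0],[0,0,2,0,0,2]],
   [[0,1,0,0,2,0],[2,0,0,2,0,0],[0,0,0,0,0,1],[0,2,0,0,2,0],[2,0,0,1,0,0],[0,0,2,0,0,0]],
   [[0,1,0,0,2,0],[2,0,0,2,0,0],[0,0,0,0,0,2],[0,2,0,0,2,0],[2,0,0,1,0,0],[0,0,1,0,0,0]]]

/-- parents -/
def par : List (ℕ × ℕ) :=
  [(0,1),(1,5),(6,6),(3,6),(4,6),(6,1),(3,1),(8,1),(8,9),(7,13),(8,8),(1,2),(5,2),(6,2),(7,18),(6,19),(1,16),(2,21),(4,22),(0,2),(1,24),(2,25),(6,26),(4,2),(5,28),(6,17),(6,29),(6,28),(7,2),(6,33),(7,22),(7,17),(6,36),(7,28),(6,38),(7,32),(5,26),(7,29),(0,3),(0,43),(3,44),(0,45),(8,46),(1,3),(1,48),(4,49),(1,50),(8,51),(8,3),(7,3),(6,54),(7,46),(6,56),(7,53),(6,58),(7,51),(6,60),(4,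47),(3,47),(1,43),(4,64),(8,65),(3,64),(8,67),(3,66),(3,68),(8,64),(7,71),(3,71),(7,73),(7,64),(7,67),(7,65),(0,53),(1,78),(7,79),(4,71),(7,81),(1,44),(1,83),(7,84),(6,72),(6,74),(6,85),(6,82),(6,75),(6,76),(6,80),(6,77),(1,4),(1,94),(2,95),(2,96),(2,94),(3,98),(0,99),(3,100),(4,100),(0,4),(0,103),(1,104),(2,105),(2,106),(4,107),(1,105),(2,109),(2,110),(6,111),(5,111),(6,113),(3,4),(4,115),(5,116),(2,103),(4,118),(1,119),(4,120),(3,118),(4,122),(1,123),(5,4),(1,108),(5,126),(3,94),(0,128),(5,129),(2,130),(4,103),(1,132),(5,133),(2,134),(4,4),(5,136),(3,97),(0,138),(0,139),(5,140),(2,104),(2,142),(4,143),(1,144),(1,145),(5,146),(5,115),(6,126),(3,111),(4,150),(6,136),(6,137),(1,103),(5,154),(2,155),(6,156),(2,154),(6,158),(6,115),(6,148),(3,158),(3,154),(5,163),(2,164),(6,116),(6,117),(6,125),(6,4),(5,150),(4,111),(5,171),(6,165),(6,162)]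

/-- roots -/
def root : List ℕ :=
  [0,1,2,3,4,1,1,1,1,1,1,1,1,1,1,1,2,2,2,2,2,2,2,2,2,2,2,2,2,2,2,2,2,2,2,2,2,2,2,2,2,2,2,3,3,3,3,3,3,3,3,3,3,3,3,3,3,3,3,3,3,3,3,3,3,3,3,3,3,3,3,3,3,3,3,3,3,3,3,3,3,3,3,3,3,3,3,3,3,3,3,3,3,3,4,4,4,4,4,4,4,4,4,4,4,4,4,4,4,4,4,4,4,4,4,4,4,4,4,4,4,4,4,4,4,4,4,4,4,4,4,4,4,4,4,4,4,4,4,4,4,4,4,4,4,4,4,4,4,4,4,4,4,4,4,4,4,4,4,4,4,4,4,4,4,4,4,4,4,4,4,4,4,4,4]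

/-- positions -/
def idx : List ℕ :=
  [0,42,10,125,124,149,131,22,170,26,73,12,31,148,80,61,39,91,168,8,2,56,75,55,9,169,3,82,147,158,88,67,19,71,156,146,53,85,114,165,126,159,81,41,86,79,162,112,113,101,174,140,157,127,27,14,37,90,161,47,153,7,59,77,28,58,52,160,116,66,62,166,6,152,32,33,11,115,54,17,93,35,60,29,57,76,4,1,136,70,63,167,137,69,38,30,18,36,92,34,100,150,65,89,72,51,64,87,84,40,151,121,172,120,173,141,171,135,13,20,23,15,74,46,111,102,117,68]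

/-- squares of the representatives -/
def Sq : List (List (List ℕ)) :=
  [[[1,0,0,0,0,0],[0,1,0,0,0,0],[0,0,1,0,0,0],[0,0,0,1,0,0],[0,0,0,0,1,0],[0,0,0,0,0,1]],
   [[2,0,0,0,0,0],[0,2,0,0,0,0],[0,0,2,0,0,0],[0,0,0,2,0,0],[0,0,0,0,2,0],[0,0,0,0,0,2]],
   [[2,0,0,0,0,0],[0,2,0,0,0,0],[0,0,1,0,0,0],[0,0,0,2,0,0],[0,0,0,0,2,0],[0,0,0,0,0,1]],
   [[1,0,0,1,0,0],[0,2,0,0,2,0],[0,0,2,0,0,0],[1,0,0,2,0,0],[0,2,0,0,1,0],[0,0,0,0,0,2]]]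

/-- positions -/
def sidx : List ℕ :=
  [0,0,14,73]

/-- membership check -/
def chkMem (L : List (List (List ℕ))) : Bool :=
  L.all fun a => decide (WF 6 a) && beqM (mmul (mmul a Jl) (trL 6 a)) Jl

/-- the identity -/
def one6 : List (List ℕ) := [[1,0,0,0,0,0],[0,1,0,0,0,0],[0,0,1,0,0,0],[0,0,0,1,0,0],[0,0,0,0,1,0],[0,0,0,0,0,1]]

theorem memB : chkMem B = true := by decide +kernel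
theorem memB' : chkMem B' = true := by decide +kernel
theorem memG : chkMem G = true := by decide +kernel
theorem memC : chkMem (Fo.take 5) = true := by decide +kernel
theorem invB : (List.range B.length).all (fun i => beqM (mmul (B.getD i []) (B'.getD i [])) one6) = true := by
  decide +kernel
theorem tab : chkTab mmul beqM (fun a b => beqM a b || beqM a (mlin 1 b b)) [] E G T tpar = true := by decide +kernel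
theorem noncen : chkNe mmul beqM [] E B = true := by decide +kernel
theorem forest : chkForest mmul beqM [] B B' 5 Fo par root = true := by decide +kernel
theorem indices : chkIdx (fun a b => beqM a b || beqM a (mlin 1 b b)) [] E Fo idx = true := by decide +kernel
theorem squares : beqM (mmul (Fo.getD 1 []) (Fo.getD 1 [])) (Sq.getD 0 []) = true ∧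
    beqM (mmul (Fo.getD 2 []) (Fo.getD 2 [])) (Sq.getD 1 []) = true ∧
    beqM (mmul (Fo.getD 3 []) (Fo.getD 3 [])) (Sq.getD 2 []) = true ∧
    beqM (mmul (Fo.getD 4 []) (Fo.getD 4 [])) (Sq.getD 3 []) = true := by decide +kernel
theorem sindices : chkIdx (fun a b => beqM a b || beqM a (mlin 1 b b)) [] Sq Fo sidx = true := by decide +kernel
theorem sroots : root.getD (sidx.getD 0 0) 0 = 0 ∧ root.getD (sidx.getD 1 0) 0 = 0 ∧ root.getD (sidx.getD 2 0) 0 = 1 ∧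
    root.getD (sidx.getD 3 0) 0 = 3 := by decide +kernel
theorem counts : cntK 128 (fun i => root.getD (idx.getD i 0) 0) 0 = 1 ∧ cntK 128 (fun i => root.getD (idx.getD i 0) 0) 1 = 11 ∧
    cntK 128 (fun i => root.getD (idx.getD i 0) 0) 2 = 24 ∧ cntK 128 (fun i => root.getD (idx.getD i 0) 0) 3 = 44 ∧
    cntK 128 (fun i => root.getD (idx.getD i 0) 0) 4 = 48 := by decide +kernel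

end Cfsg.Agent.H942.Sp6Data
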