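import Mathlib
import Cfsg.Agent.H942.U4Data

/-!
# Subgroups of `PSU₄(3)`: checks
-/

set_option autoImplicit false
set_option maxRecDepth 100000

namespace Cfsg.Agent.H942.U4Check

open Cfsg.Agent.SporadicStructure.FieldNine Cfsg.Agent.H942.G4 Cfsg.Agent.H942.Fun
open Cfsg.Agent.H942.U4Data

/-- membership in the special unitary group -/
def Mem (a : Mat9) : Prop := (toM a).det = 1 ∧ ∀ j k, ∑ i, toM a i j * (toM a i k) ^ 3 = if j = k then 1 else 0

instance decMem (a : Mat9) : Decidable (Mem a) := by unfold Mem; infer_instance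

theorem memG : ∀ i < 7, Mem (G i) := by decide +kernel
theorem memG5 : ∀ i < 5, Mem (G5 i) := by decide +kernel
theorem memB : ∀ i < 10, Mem (B i) := by decide +kernel
theorem memC : ∀ i < 7, Mem (Fo i) := by decide +kernel
theorem oneS : toM (S 0) = 1 := by decide +kernel
theorem oneS5 : toM (S5 0) = 1 := by decide +kernel
theorem oneC : toM (Fo 0) = 1 := by decide +kernel

/-- the products `s p` for `s` in the cosets `ks` of `E` -/
def chkProd (X : Mat9) (ks : List ℕ) (q : ℕ → ℕ) : Bool :=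
  ks.all fun k => allB (fun j => Nat.blt (q (16 * k + j)) 711 &&
    eqv (mul (S (16 * k + j)) X) (Fo (q (16 * k + j)))) 16

/-- the generators of index `< m` conjugated by `p` -/
def chkConjG (m n : ℕ) (p : Mat9) (c : ℕ → ℕ) : Bool :=
  allB (fun j => Nat.blt (c j) n && eqv (mul (G j) p) (mul p (S (c j)))) m

/-- the elements of order 3 modulo `E`: coset and index of `x` or `y` in `B` -/
def kr (i : ℕ) : ℕ × ℕ := [(0, 3), (1, 3), (2, 3), (3, 3), (0, 4), (1, 4), (4, 4), (5, 4)].getD i (0, 0)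

/-- cubes -/
def chkCube : Bool :=
  allB (fun i => beq (mul (S (16 * (kr i).1)) (B (kr i).2)) (P1 i) && beq (mul (P1 i) (P1 i)) (P2 i) &&
    Nat.blt (c3 i) 16 && eqv (mul (P2 i) (P1 i)) (S (c3 i))) 8

/-- coset decomposition -/
def chkCos : Bool :=
  allB (fun k => allB (fun j => eqv (mul (S j) (S (16 * k))) (S (16 * k + j))) 16) 8

theorem tab : chkTab mul beq eqv 128 7 S G T Ti tpar = true := by decide +kernel
theorem noncen : chkNe mul beq 128 10 S B wS = true := by decide +kernel
theorem tab5 : chkTab mul beq eqv 80 5 S5 G5 T5 Ti5 tpar5 = true := by decide +kernel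
theorem noncen5 : chkNe mul beq 80 10 S5 B wS5 = true := by decide +kernel
theorem sub16 : chkSub T tpar 16 4 = true := by decide +kernel
theorem sub64 : chkSub T tpar 64 6 = true := by decide +kernel
theorem sub5 : chkSub T5 tpar5 16 4 = true := by decide +kernel
theorem forest : chkForest mul beq 10 7 711 B Fo par root = true := by decide +kernel
theorem indices : chkIdx eqv 128 711 S Fo idx = true := by decide +kernel
theorem indices5 : chkIdx eqv 80 711 S5 Fo idx5 = true := by decide +kernel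
theorem h64 : allB (fun i => Nat.beq (T i 6) (64 + i)) 64 = true := by decide +kernel
theorem cosets : chkCos = true := by decide +kernel
theorem normE : allB (fun r => chkConjG 4 16 (B r) (cE r)) 5 = true := by decide +kernel
theorem normO : chkConjG 6 64 (B 3) cO = true := by decide +kernel
theorem conjy : eqv (mul (G 6) (B 4)) (mul (B 4) (S 27)) = true := by decide +kernel
theorem GB : allB (fun i => beq (G (4 + i)) (B i)) 3 = true := by decide +kernel
theorem cubes : chkCube = true := by decide +kernel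
theorem squares : allB (fun i => Nat.blt (sidx i) 711 && eqv (mul (Fo (i + 1)) (Fo (i + 1))) (Fo (sidx i))) 4 = true := by
  decide +kernel
theorem sroots : root (sidx 0) = 0 ∧ root (sidx 1) = 1 ∧ root (sidx 2) = 1 ∧ root (sidx 3) = 2 := by decide +kernel
theorem five : beq (mul (Fo 5) (Fo 5)) (Fo 6) = true ∧ eqv (mul (mul (Fo 6) (Fo 6)) (Fo 5)) (Fo 0) = true := by
  decide +kernel
theorem prodXY : beq (mul (B 3) (B 4)) (XY 0) = true := by decide +kernel
theorem prodx : chkProd (B 3) [4, 5, 6, 7] qx = true := by decide +kernel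
theorem prody : chkProd (B 4) [2, 3, 6, 7] qy = true := by decide +kernel
theorem prodxy : chkProd (XY 0) [0, 1, 2, 3, 4, 5, 6, 7] qxy = true := by decide +kernel

/-- the numbers of elements of each class -/
def cnts (n : ℕ) (f : ℕ → ℕ) : List ℕ := (List.range 7).map fun r => Cfsg.Agent.H942.Forest.cntK n (fun i => root (f i)) r

theorem cntS : cnts 128 idx = [1, 35, 20, 56, 16, 0, 0] := by decide +kernel
theorem cntE : cnts 16 idx = [1, 15, 0, 0, 0, 0, 0] := by decide +kernel
theorem cnt5 : cnts 80 idx5 = [1, 15, 0, 0, 0, 32, 32] := by decide +kernel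
theorem cntE5 : cnts 16 idx5 = [1, 15, 0, 0, 0, 0, 0] := by decide +kernel
theorem cnt_x_4 : cnts 16 (fun j => qx (16 * 4 + j)) = [0, 4, 4, 8, 0, 0, 0] := by decide +kernel
theorem cnt_x_5 : cnts 16 (fun j => qx (16 * 5 + j)) = [0, 0, 0, 8, 8, 0, 0] := by decide +kernel
theorem cnt_x_6 : cnts 16 (fun j => qx (16 * 6 + j)) = [0, 4, 4, 8, 0, 0, 0] := by decide +kernel
theorem cnt_x_7 : cnts 16 (fun j => qx (16 * 7 + j)) = [0, 0, 0, 8, 8, 0, 0] := by decide +kernel
theorem cnt_y_2 : cnts 16 (fun j => qy (16 * 2 + j)) = [0, 4, 4, 8, 0, 0, 0] := by decide +kernel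
theorem cnt_y_3 : cnts 16 (fun j => qy (16 * 3 + j)) = [0, 0, 0, 8, 8, 0, 0] := by decide +kernel
theorem cnt_y_6 : cnts 16 (fun j => qy (16 * 6 + j)) = [0, 0, 0, 8, 8, 0, 0] := by decide +kernel
theorem cnt_y_7 : cnts 16 (fun j => qy (16 * 7 + j)) = [0, 4, 4, 8, 0, 0, 0] := by decide +kernel
theorem cnt_xy_0 : cnts 16 (fun j => qxy (16 * 0 + j)) = [0, 0, 0, 0, 0, 0, 16] := by decide +kernel
theorem cnt_xy_1 : cnts 16 (fun j => qxy (16 * 1 + j)) = [0, 0, 0, 8, 8, 0, 0] := by decide +kernel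
theorem cnt_xy_2 : cnts 16 (fun j => qxy (16 * 2 + j)) = [0, 0, 0, 8, 8, 0, 0] := by decide +kernel
theorem cnt_xy_3 : cnts 16 (fun j => qxy (16 * 3 + j)) = [0, 0, 0, 0, 0, 16, 0] := by decide +kernel
theorem cnt_xy_4 : cnts 16 (fun j => qxy (16 * 4 + j)) = [0, 0, 0, 0, 0, 16, 0] := by decide +kernel
theorem cnt_xy_5 : cnts 16 (fun j => qxy (16 * 5 + j)) = [0, 0, 0, 8, 8, 0, 0] := by decide +kernel
theorem cnt_xy_6 : cnts 16 (fun j => qxy (16 * 6 + j)) = [0, 0, 0, 0, 0, 0, 16] := by decide +kernel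
theorem cnt_xy_7 : cnts 16 (fun j => qxy (16 * 7 + j)) = [0, 0, 0, 8, 8, 0, 0] := by decide +kernel

end Cfsg.Agent.H942.U4Check
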